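import Cfsg.Agent.Lib.HalfPSL.Adjoint

/-!
# Recognition of `PSL₂(p)` in three dimensional orthogonal representations

`x` has order `p ≥ 5`, `p² ∤ |G|`, and in an orthogonal representation `ψ` of `G` on `sl₂` it is a
regular unipotent not commuting with all its conjugates.  Then the image of the normal closure of
`x` is `PSL₂(p)`, and there `x` is conjugate to its powers with square exponents.
-/

set_option autoImplicit false
set_option linter.unusedSectionVars false
set_option linter.style.haveILetI false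
set_option linter.unnecessarySeqFocus false
set_option linter.unusedTactic false
set_option linter.unreachableTactic false

noncomputable section

namespace CfsgLib.HalfPSL

open Matrix

variable {k : Type*} [Field k] {p : ℕ} [hp : Fact p.Prime] [CharP k p]

local notation "SL2" => Matrix.SpecialLinearGroup (Fin 2) k
local notation "M2" => Matrix (Fin 2) (Fin 2) k
local notation "M3" => Matrix (Fin 3) (Fin 3) k

theorem trace_eq_two {s : SL2} (h : s ^ p = 1) : (s : M2) 0 0 + (s : M2) 1 1 = 2 := by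
  have h1 : ((s : M2) - 1) ^ p = 0 := by
    haveI : CharP M2 p := charP_of_injective_algebraMap (algebraMap k M2).injective p
    rw [sub_pow_char_of_commute (p := p) (h := Commute.one_right _), one_pow,
      ← Matrix.SpecialLinearGroup.coe_pow, h, Matrix.SpecialLinearGroup.coe_one, sub_self]
  have h2 : ((s : M2) - 1).det = 0 := by
    have := congrArg Matrix.det h1
    rw [Matrix.det_pow, Matrix.det_zero] at this
    exact eq_zero_of_pow_eq_zero this
  have h3 := s.2
  rw [Matrix.det_fin_two] at h2 h3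
  simp at h2
  linear_combination -h2 + h3

theorem eq_upperU_of_lower_zero {s : SL2} (h : s ^ p = 1) (h10 : (s : M2) 1 0 = 0) :
    s = upperU ((s : M2) 0 1) := by
  have ht := trace_eq_two h
  have hd := s.2
  rw [Matrix.det_fin_two, h10, mul_zero, sub_zero] at hd
  have e : ((s : M2) 0 0 - 1) ^ 2 = 0 := by linear_combination (s : M2) 0 0 * ht - hd
  have h00 : (s : M2) 0 0 = 1 := sub_eq_zero.1 (eq_zero_of_pow_eq_zero e)
  have h11 : (s : M2) 1 1 = 1 := by linear_combination ht - h00
  apply Subtype.ext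
  ext i j
  fin_cases i <;> fin_cases j <;> simp [upperU_coe, h00, h11, h10]

/-- A pair of unipotents with different fixed points, in normal form. -/
theorem exists_frame (hp5 : 5 ≤ p) (Γ : Subgroup SL2) [Finite Γ] (hsq : ¬ p ^ 2 ∣ Nat.card Γ)
    {γ : k} (hγ : γ ≠ 0) (hu : upperU γ ∈ Γ) {s : SL2} (hs : s ∈ Γ) (hsp : s ^ p = 1)
    (h10 : (s : M2) 1 0 ≠ 0) :
    (s : M2) 1 0 * γ ∈ (primeCast k p).range ∧
    ∃ (M N : M2) (h : M * N = 1),
      (∀ z, conjSL M N h (upperU z) = upperU ((s : M2) 1 0 * z)) ∧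
      ∀ t, Matrix.SpecialLinearGroup.map (primeCast k p) t ∈ Γ.map (conjSL M N h) := by
  set c := (s : M2) 1 0 with hc
  set τ := (1 - (s : M2) 0 0) / c with hτ
  have hMN : (!![c, c * τ; 0, 1] : M2) * !![c⁻¹, -τ; 0, 1] = 1 := by
    ext i j
    fin_cases i <;> fin_cases j <;> simp [Matrix.mul_apply, Fin.sum_univ_two, h10]
  have hU : ∀ z, conjSL (!![c, c * τ; 0, 1] : M2) !![c⁻¹, -τ; 0, 1] hMN (upperU z) =
      upperU (c * z) := by
    intro z
    apply Subtype.ext
    rw [conjSL_coe, upperU_coe, upperU_coe]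
    ext i j
    fin_cases i <;> fin_cases j <;> simp [Matrix.mul_apply, Fin.sum_univ_two, h10] <;> ring
  have hX : ((conjSL (!![c, c * τ; 0, 1] : M2) !![c⁻¹, -τ; 0, 1] hMN s : SL2) : M2) =
      !![1, 0; 1, 1] := by
    have ht := trace_eq_two hsp
    have hd := s.2
    rw [Matrix.det_fin_two, ← hc] at hd
    rw [conjSL_coe]
    ext i j
    fin_cases i <;> fin_cases j <;>
      simp [Matrix.mul_apply, Matrix.vecMul, dotProduct, Fin.sum_univ_two, hτ, ← hc] <;> field_simp <;>
      first
        | ring1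
        | linear_combination ht
        | linear_combination ht - hd
        | linear_combination hd
  have hinj := conjSL_injective (!![c, c * τ; 0, 1] : M2) !![c⁻¹, -τ; 0, 1] hMN
  have hcard : Nat.card (Γ.map (conjSL (!![c, c * τ; 0, 1] : M2) !![c⁻¹, -τ; 0, 1] hMN)) =
      Nat.card Γ := Nat.card_congr (Γ.equivMapOfInjective _ hinj).toEquiv.symm
  haveI : Finite (Γ.map (conjSL (!![c, c * τ; 0, 1] : M2) !![c⁻¹, -τ; 0, 1] hMN)) :=
    Finite.of_equiv _ (Γ.equivMapOfInjective _ hinj).toEquiv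
  obtain ⟨h1, h2⟩ := contains_sl2 (p := p) hp5 (mul_ne_zero h10 hγ) _ (hcard ▸ hsq) hX
    (upperU_coe (c * γ)) (Subgroup.mem_map_of_mem _ hs)
    (by rw [← hU]; exact Subgroup.mem_map_of_mem _ hu)
  exact ⟨h1, _, _, hMN, hU, h2⟩

/-- In a group containing `SL₂(p)` the unipotents are defined over the prime field. -/
theorem rational_of_contains (hp5 : 5 ≤ p) (Γ : Subgroup SL2) [Finite Γ]
    (hsq : ¬ p ^ 2 ∣ Nat.card Γ)
    (hΓ : ∀ t, Matrix.SpecialLinearGroup.map (primeCast k p) t ∈ Γ) {s : SL2} (hs : s ∈ Γ)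
    (hsp : s ^ p = 1) : ∃ t, Matrix.SpecialLinearGroup.map (primeCast k p) t = s := by
  set ι := primeCast k p
  have hu : upperU (1 : k) ∈ Γ := by
    convert hΓ ⟨!![1, 1; 0, 1], by simp [Matrix.det_fin_two]⟩ using 1
    ext i j
    show _ = ι ((!![1, 1; 0, 1] : Matrix (Fin 2) (Fin 2) (ZMod p)) i j)
    fin_cases i <;> fin_cases j <;> simp [upperU_coe]
  have key : ∀ z : SL2, z ∈ Γ → z ^ p = 1 → (z : M2) 1 0 ∈ ι.range := by
    intro z hz hzp
    by_cases h0 : (z : M2) 1 0 = 0
    · rw [h0]; exact zero_mem _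
    · have := (exists_frame hp5 Γ hsq one_ne_zero hu hz hzp h0).1
      rwa [mul_one] at this
  let w : SL2 := ⟨!![0, 1; -1, 0], by simp [Matrix.det_fin_two]⟩
  have hw : w ∈ Γ := by
    convert hΓ ⟨!![0, 1; -1, 0], by simp [Matrix.det_fin_two]⟩ using 1
    ext i j
    show _ = ι ((!![0, 1; -1, 0] : Matrix (Fin 2) (Fin 2) (ZMod p)) i j)
    fin_cases i <;> fin_cases j <;> simp [w]
  have key01 : ∀ z : SL2, z ∈ Γ → z ^ p = 1 → (z : M2) 0 1 ∈ ι.range := by
    intro z hz hzp
    have h := key (w * z * w⁻¹) (mul_mem (mul_mem hw hz) (inv_mem hw))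
      (by rw [conj_pow, hzp, mul_one, mul_inv_cancel])
    have e : ((w * z * w⁻¹ : SL2) : M2) 1 0 = -(z : M2) 0 1 := by
      rw [Matrix.SpecialLinearGroup.coe_mul, Matrix.SpecialLinearGroup.coe_mul,
        Matrix.SpecialLinearGroup.coe_inv, Matrix.adjugate_fin_two]
      simp [w, Matrix.mul_apply, Matrix.vecMul, dotProduct, Fin.sum_univ_two]
    rw [e] at h
    simpa using neg_mem h
  have h01 := key01 s hs hsp
  have h10 := key s hs hsp
  have hdiff := key01 (upperU 1 * s * (upperU 1)⁻¹) (mul_mem (mul_mem hu hs) (inv_mem hu))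
    (by rw [conj_pow, hsp, mul_one, mul_inv_cancel])
  have e : ((upperU 1 * s * (upperU 1)⁻¹ : SL2) : M2) 0 1 =
      (s : M2) 0 1 - (s : M2) 0 0 + (s : M2) 1 1 - (s : M2) 1 0 := by
    rw [upperU_inv, Matrix.SpecialLinearGroup.coe_mul, Matrix.SpecialLinearGroup.coe_mul]
    simp [upperU_coe, Matrix.mul_apply, Matrix.vecMul, dotProduct, Fin.sum_univ_two]
    ring
  rw [e] at hdiff
  have ht := trace_eq_two hsp
  have h2 : (2 : k) ≠ 0 := by
    intro h0
    have h0' : ((2 : ℕ) : k) = 0 := by exact_mod_cast h0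
    rw [CharP.cast_eq_zero_iff k p] at h0'
    have := Nat.le_of_dvd two_pos h0'
    omega
  obtain ⟨a, ha⟩ : (s : M2) 0 1 - (s : M2) 1 0 - ((s : M2) 0 1 - (s : M2) 0 0 + (s : M2) 1 1 -
      (s : M2) 1 0) ∈ ι.range := sub_mem (sub_mem h01 h10) hdiff
  have h00 : (s : M2) 0 0 ∈ ι.range := ⟨a / 2 + 1, by
    rw [map_add, map_one, map_div₀, ha, map_ofNat]
    field_simp
    linear_combination -ht⟩
  have h11 : (s : M2) 1 1 ∈ ι.range := by
    rw [show (s : M2) 1 1 = 2 - (s : M2) 0 0 by linear_combination ht]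
    exact sub_mem ⟨2, map_ofNat ι 2⟩ h00
  obtain ⟨q00, e00⟩ := h00
  obtain ⟨q01, e01⟩ := h01
  obtain ⟨q10, e10⟩ := h10
  obtain ⟨q11, e11⟩ := h11
  have hd := s.2
  rw [Matrix.det_fin_two] at hd
  refine ⟨⟨!![q00, q01; q10, q11], ι.injective ?_⟩, ?_⟩
  · rw [Matrix.det_fin_two]
    simp [e00, e01, e10, e11, hd]
  · ext i j
    show ι ((!![q00, q01; q10, q11] : Matrix (Fin 2) (Fin 2) (ZMod p)) i j) = _
    fin_cases i <;> fin_cases j <;> simp [e00, e01, e10, e11]

variable {G : Type*} [Group G] [Finite G] {x : G}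

/-- The image of the normal closure of `x` is `PSL₂(p)`. -/
theorem exists_psl (ψ : G →* M3) (hiso : ∀ g, (ψ g)ᵀ * gram * ψ g = gram) (hx : ψ x = regUnip)
    (hxo : orderOf x = p) (hsq : ¬ p ^ 2 ∣ Nat.card G) (hp5 : 5 ≤ p)
    (hnc : ∃ h, ¬ Commute (ψ (h * x * h⁻¹)) (ψ x)) :
    ∃ Φ : Matrix.SpecialLinearGroup (Fin 2) (ZMod p) →* M3,
      (∀ s, Φ s = 1 ↔ s ∈ Subgroup.center (Matrix.SpecialLinearGroup (Fin 2) (ZMod p))) ∧
      (∀ g ∈ Subgroup.normalClosure ({x} : Set G), ∃ s, Φ s = ψ g) ∧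
      (∀ s, ∃ g ∈ Subgroup.normalClosure ({x} : Set G), ψ g = Φ s) ∧
      ∀ q : (ZMod p)ˣ, ∃ g ∈ Subgroup.normalClosure ({x} : Set G),
        ψ (g * x * g⁻¹) = ψ x ^ ((q : ZMod p) ^ 2).val := by
  classical
  set K := Subgroup.normalClosure ({x} : Set G)
  have h2 : (2 : k) ≠ 0 := by
    intro h0
    have h0' : ((2 : ℕ) : k) = 0 := by exact_mod_cast h0
    rw [CharP.cast_eq_zero_iff k p] at h0'
    have := Nat.le_of_dvd two_pos h0'
    omega
  let ad : SL2 →* M3ˣ := (adHom (k := k)).toHomUnits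
  set Γ := (K.map ψ.toHomUnits).comap ad
  have hmem : ∀ s, s ∈ Γ ↔ ∃ g ∈ K, ψ g = adHom s := by
    intro s
    simp only [Γ, Subgroup.mem_comap, Subgroup.mem_map]
    exact exists_congr fun g => and_congr_right fun _ => Units.ext_iff
  -- the group is finite and of order not divisible by `p²`
  let f : Γ →* K.map ψ.toHomUnits := ad.subgroupComap _
  have hker : ∀ a ∈ f.ker, ((a : SL2) : M2) = 1 ∨ ((a : SL2) : M2) = -1 := by
    intro a ha
    refine adM_eq_one (a : SL2).2 ?_
    have := congrArg (fun z : K.map ψ.toHomUnits => ((z : M3ˣ) : M3)) (MonoidHom.mem_ker.1 ha)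
    exact this
  let emb : f.ker → Fin 2 := fun a => if ((a.1 : SL2) : M2) = 1 then 0 else 1
  have hemb : Function.Injective emb := by
    intro a b hab
    simp only [emb] at hab
    refine Subtype.ext (Subtype.ext (Subtype.ext ?_))
    rcases hker _ a.2 with ha | ha <;> rcases hker _ b.2 with hb | hb <;>
      (first | exact ha.trans hb.symm | skip) <;>
      · have h1 : (-1 : M2) ≠ 1 := fun h => h2 (by
          have := congrFun (congrFun h 0) 0
          simp at this
          linear_combination -this)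
        rw [ha, hb] at hab
        simp [h1] at hab
  haveI : Finite (K.map ψ.toHomUnits) :=
    Finite.of_surjective _ (ψ.toHomUnits.subgroupMap_surjective K)
  haveI : Finite f.ker := Finite.of_injective emb hemb
  have hkc : Nat.card f.ker ≤ 2 := (Nat.card_le_card_of_injective emb hemb).trans (by simp)
  have hcardΓ : Nat.card Γ = Nat.card f.ker * Nat.card f.range := by
    rw [← Subgroup.card_mul_index f.ker, Subgroup.index_ker]
  haveI : Finite Γ := Nat.finite_of_card_ne_zero (by
    rw [hcardΓ]; exact mul_ne_zero Nat.card_pos.ne' Nat.card_pos.ne')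
  have hΓsq : ¬ p ^ 2 ∣ Nat.card Γ := by
    rw [hcardΓ]
    intro h
    have hcop : Nat.Coprime (p ^ 2) (Nat.card f.ker) := by
      refine Nat.Coprime.pow_left 2 ((hp.out.coprime_iff_not_dvd).2 fun hd => ?_)
      have := Nat.le_of_dvd Nat.card_pos hd
      omega
    refine hsq ((hcop.dvd_of_dvd_mul_left h).trans ((Subgroup.card_subgroup_dvd_card _).trans ?_))
    exact (K.card_map_dvd ψ.toHomUnits).trans (Subgroup.card_subgroup_dvd_card K)
  -- the conjugates of `x`
  have hxK : x ∈ K := Subgroup.subset_normalClosure rfl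
  have hu1 : upperU (1 : k) ∈ Γ := (hmem _).2 ⟨x, hxK, by rw [hx, adHom_upperU_one]⟩
  have hlift : ∀ h : G, ∃ s ∈ Γ, s ^ p = 1 ∧ adHom s = ψ (h * x * h⁻¹) := by
    intro h
    set P := ψ h
    have hPinv : P * ψ h⁻¹ = 1 := by rw [← map_mul, mul_inv_cancel, map_one]
    have hPinv' : ψ h⁻¹ * P = 1 := by rw [← map_mul, inv_mul_cancel, map_one]
    set n : Fin 3 → k := fun i => P i 0 with hn
    have hn0 : n ≠ 0 := fun h0 => by
      have := congrFun (congrFun hPinv' 0) 0
      simp [Matrix.mul_apply, show ∀ i, P i 0 = 0 from fun i => congrFun h0 i] at this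
    have hiso0 : n ⬝ᵥ (gram *ᵥ n) = 0 := by
      have := congrFun (congrFun (hiso h) 0) 0
      rw [mul_assoc] at this
      simp only [Matrix.mul_apply, Matrix.transpose_apply] at this
      simp only [dotProduct, Matrix.mulVec, hn]
      simpa [gram] using this
    obtain ⟨S, c, hc, hS⟩ := exists_move h2 hn0 hiso0
    set g := adHom S⁻¹ * ψ (h * x * h⁻¹) * adHom S with hg
    have hg' : g = adHom S⁻¹ * P * regUnip * (ψ h⁻¹ * adHom S) := by
      rw [hg, map_mul, map_mul, hx]; simp only [P, mul_assoc]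
    have hQ : ψ h⁻¹ * adHom S * (adHom S⁻¹ * P) = 1 := by
      rw [mul_assoc, ← mul_assoc (adHom S), ← map_mul, mul_inv_cancel, map_one, one_mul, hPinv']
    have hgiso : gᵀ * gram * g = gram := by
      have hA : ∀ A : SL2, (adHom A)ᵀ * gram * adHom A = gram := fun A => by
        rw [adHom_apply, adM_gram, A.2, one_pow, one_smul]
      have hmul : ∀ A B : M3, Aᵀ * gram * A = gram → Bᵀ * gram * B = gram →
          (A * B)ᵀ * gram * (A * B) = gram := by
        intro A B hA hB
        rw [Matrix.transpose_mul,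
          show Bᵀ * Aᵀ * gram * (A * B) = Bᵀ * (Aᵀ * gram * A) * B by simp only [mul_assoc],
          hA, hB]
      exact hmul _ _ (hmul _ _ (hA _) (hiso _)) (hA _)
    have hfix : ∀ i, g i 0 = (1 : M3) i 0 := by
      intro i
      -- the first column of `ψ h⁻¹ * adHom S` is a multiple of `E`
      have hcol : ∀ j, (ψ h⁻¹ * adHom S) j 0 = c * (1 : M3) j 0 := by
        intro j
        rw [Matrix.mul_apply, ← congrFun (congrFun hPinv' j) 0, Matrix.mul_apply, Finset.mul_sum]
        exact Finset.sum_congr rfl fun l _ => by rw [hS l]; ring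
      have hR : ∀ j, (regUnip : M3) j 0 = (1 : M3) j 0 := fun j => by
        fin_cases j <;> simp [regUnip, Matrix.one_apply]
      calc g i 0 = (adHom S⁻¹ * P * (regUnip : M3) * (ψ h⁻¹ * adHom S)) i 0 := by rw [hg']
        _ = c * (adHom S⁻¹ * P * (regUnip : M3)) i 0 := by
            rw [Matrix.mul_apply]
            simp only [hcol, Matrix.one_apply]
            simp [mul_comm]
        _ = c * (adHom S⁻¹ * P) i 0 := by
            rw [Matrix.mul_apply]
            simp only [hR, Matrix.one_apply]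
            simp
        _ = (adHom S⁻¹ * adHom S) i 0 := by
            rw [Matrix.mul_apply, Matrix.mul_apply, Finset.mul_sum]
            exact Finset.sum_congr rfl fun l _ => by rw [hS l]; ring
        _ = _ := by rw [← map_mul, inv_mul_cancel, map_one]
    have hnil : (g - 1) ^ 3 = 0 := by
      have hR : ((regUnip : M3) - 1) ^ 3 = 0 := by
        ext i j
        fin_cases i <;> fin_cases j <;>
          simp [regUnip, pow_succ, Matrix.mul_apply, Fin.sum_univ_three]
      have hQ' : adHom S⁻¹ * P * (ψ h⁻¹ * adHom S) = 1 := mul_eq_one_comm.1 hQ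
      have e : g - 1 = adHom S⁻¹ * P * (regUnip - 1) * (ψ h⁻¹ * adHom S) := by
        rw [mul_sub, sub_mul, mul_one, hQ', ← hg']
      rw [e]
      generalize adHom S⁻¹ * P = Q at hQ hQ'
      generalize ψ h⁻¹ * adHom S = R at hQ hQ'
      generalize (regUnip : M3) - 1 = N at hR
      simp only [pow_succ, pow_zero, one_mul] at hR ⊢
      calc Q * N * R * (Q * N * R) * (Q * N * R)
          = Q * N * (R * Q) * N * (R * Q) * N * R := by simp only [mul_assoc]
        _ = Q * (N * N * N) * R := by rw [hQ]; simp only [mul_one, mul_assoc]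
        _ = 0 := by rw [hR, mul_zero, zero_mul]
    obtain ⟨γ, hγ⟩ := exists_upperU h2 hgiso hfix hnil
    have key : adHom (S * upperU γ * S⁻¹) = ψ (h * x * h⁻¹) := by
      rw [map_mul adHom, map_mul adHom, ← hγ, hg]
      simp only [mul_assoc, ← map_mul adHom, mul_inv_cancel, map_one, mul_one]
      rw [← mul_assoc, ← map_mul adHom, mul_inv_cancel, map_one, one_mul]
    refine ⟨S * upperU γ * S⁻¹, (hmem _).2 ⟨h * x * h⁻¹,
      Subgroup.normalClosure_normal.conj_mem x hxK h, key.symm⟩, ?_, key⟩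
    rw [conj_pow, upperU_pow, CharP.cast_eq_zero, zero_mul, upperU_zero, mul_one, mul_inv_cancel]
  -- a frame
  obtain ⟨h₀, hh₀⟩ := hnc
  obtain ⟨s₀, hs₀, hs₀p, hs₀e⟩ := hlift h₀
  have h10 : (s₀ : M2) 1 0 ≠ 0 := by
    intro h0
    apply hh₀
    rw [← hs₀e, hx, eq_upperU_of_lower_zero hs₀p h0, ← adHom_upperU_one]
    exact Commute.map (by show _ * _ = _ * _; rw [upperU_mul, upperU_mul, add_comm]) adHom
  obtain ⟨hc, M, N, hMN, hU, hcont⟩ := exists_frame hp5 Γ hΓsq one_ne_zero hu1 hs₀ hs₀p h10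
  rw [mul_one] at hc
  obtain ⟨c, hc⟩ := hc
  set Cj := conjSL M N hMN
  set Cb := conjSL N M (mul_eq_one_comm.1 hMN)
  have hback : ∀ s, Cb (Cj s) = s := by
    intro s
    apply Subtype.ext
    rw [conjSL_coe, conjSL_coe]
    simp only [mul_assoc, mul_eq_one_comm.1 hMN, mul_one]
    rw [← mul_assoc, mul_eq_one_comm.1 hMN, one_mul]
  have hforth : ∀ s, Cj (Cb s) = s := by
    intro s
    apply Subtype.ext
    rw [conjSL_coe, conjSL_coe]
    simp only [mul_assoc, hMN, mul_one]
    rw [← mul_assoc, hMN, one_mul]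
  set Γ2 := Γ.map Cj
  have hinj := conjSL_injective M N hMN
  haveI : Finite Γ2 := Finite.of_equiv _ (Γ.equivMapOfInjective _ hinj).toEquiv
  have hΓ2sq : ¬ p ^ 2 ∣ Nat.card Γ2 := by
    rwa [← Nat.card_congr (Γ.equivMapOfInjective _ hinj).toEquiv]
  let Φ : Matrix.SpecialLinearGroup (Fin 2) (ZMod p) →* M3 :=
    adHom.comp (Cb.comp (Matrix.SpecialLinearGroup.map (primeCast k p)))
  have himage : ∀ t, ∃ g ∈ K, ψ g = Φ t := by
    intro t
    obtain ⟨s, hs, hst⟩ := hcont t
    obtain ⟨g, hg, hgs⟩ := (hmem s).1 hs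
    refine ⟨g, hg, hgs.trans ?_⟩
    show adHom s = adHom (Cb (Matrix.SpecialLinearGroup.map (primeCast k p) t))
    rw [← hst, hback]
  refine ⟨Φ, fun t => ⟨fun h => ?_, fun h => ?_⟩, fun g hg => ?_, himage, fun q => ?_⟩
  · have hinjC := conjSL_injective N M (mul_eq_one_comm.1 hMN)
    have hinjι : Function.Injective (Matrix.SpecialLinearGroup.map (n := Fin 2) (primeCast k p)) := by
      intro a b hab
      ext i j
      exact (primeCast k p).injective (congrArg (fun s : SL2 => (s : M2) i j) hab)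
    rw [CfsgLib.SpecLin.SLTwo.mem_center_iff']
    rcases adM_eq_one (Cb _).2 h with e | e
    · left
      have : t = 1 := hinjι (hinjC (by
        rw [map_one, map_one]; exact Subtype.ext (e.trans Matrix.SpecialLinearGroup.coe_one.symm)))
      simp [this]
    · right
      have : t = -1 := hinjι (hinjC (Subtype.ext (e.trans ?_)))
      · simp [this]
      · show (-1 : M2) = N * (Matrix.SpecialLinearGroup.map (primeCast k p)
          (-1 : Matrix.SpecialLinearGroup (Fin 2) (ZMod p)) : M2) * M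
        rw [show (Matrix.SpecialLinearGroup.map (primeCast k p)
          (-1 : Matrix.SpecialLinearGroup (Fin 2) (ZMod p)) : M2) = -1 by
            ext i j
            show primeCast k p ((-1 : Matrix (Fin 2) (Fin 2) (ZMod p)) i j) = _
            fin_cases i <;> fin_cases j <;> simp]
        rw [mul_neg, mul_one, neg_mul, mul_eq_one_comm.1 hMN]
  · rcases CfsgLib.SpecLin.SLTwo.mem_center_iff'.1 h with e | e
    · rw [show t = 1 from Subtype.ext e, map_one]
    · show adM (N * (Matrix.SpecialLinearGroup.map (primeCast k p) t : M2) * M) = 1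
      rw [show (Matrix.SpecialLinearGroup.map (primeCast k p) t : M2) = -1 by
            ext i j
            show primeCast k p ((t : Matrix (Fin 2) (Fin 2) (ZMod p)) i j) = _
            rw [e]
            fin_cases i <;> fin_cases j <;> simp,
        mul_neg, mul_one, neg_mul, mul_eq_one_comm.1 hMN]
      ext i j
      fin_cases i <;> fin_cases j <;> simp [adM]
  · induction hg using Subgroup.closure_induction with
    | mem z hz =>
      obtain ⟨a, rfl, hconj⟩ : ∃ a, a = x ∧ IsConj a z := by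
        obtain ⟨a, ha, haz⟩ := Group.mem_conjugatesOfSet_iff.1 hz
        exact ⟨a, ha, haz⟩
      obtain ⟨h, rfl⟩ := isConj_iff.1 hconj
      obtain ⟨s, hs, hsp, hse⟩ := hlift h
      obtain ⟨t, ht⟩ := rational_of_contains hp5 Γ2 hΓ2sq hcont ⟨s, hs, rfl⟩
        (by rw [← map_pow, hsp, map_one])
      refine ⟨t, ?_⟩
      show adHom (Cb (Matrix.SpecialLinearGroup.map (primeCast k p) t)) = _
      rw [ht, hback, hse]
    | one => exact ⟨1, by rw [map_one, map_one]⟩
    | mul a b _ _ iha ihb =>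
      obtain ⟨s, hs⟩ := iha
      obtain ⟨t, ht⟩ := ihb
      exact ⟨s * t, by rw [map_mul, map_mul, hs, ht]⟩
    | inv a _ iha =>
      obtain ⟨s, hs⟩ := iha
      refine ⟨s⁻¹, ?_⟩
      calc Φ s⁻¹ = Φ s⁻¹ * (ψ a * ψ a⁻¹) := by rw [← map_mul ψ, mul_inv_cancel, map_one, mul_one]
        _ = ψ a⁻¹ := by rw [← mul_assoc, ← hs, ← map_mul Φ, inv_mul_cancel, map_one, one_mul]
  · set d : Matrix.SpecialLinearGroup (Fin 2) (ZMod p) :=
      ⟨!![(q : ZMod p), 0; 0, ((q⁻¹ : (ZMod p)ˣ) : ZMod p)], by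
        rw [Matrix.det_fin_two_of, Units.mul_inv, mul_zero, sub_zero]⟩ with hd
    obtain ⟨g, hg, hgd⟩ := himage d
    refine ⟨g, hg, ?_⟩
    set n := ((q : ZMod p) ^ 2).val
    set D := Cb (Matrix.SpecialLinearGroup.map (primeCast k p) d) with hD
    have hrel : D * upperU 1 = upperU 1 ^ n * D := by
      apply hinj
      show Cj (D * upperU 1) = Cj (upperU 1 ^ n * D)
      rw [map_mul, map_mul, map_pow, hD, hforth, hU, mul_one, upperU_pow, ← hc]
      apply Subtype.ext
      rw [Matrix.SpecialLinearGroup.coe_mul, Matrix.SpecialLinearGroup.coe_mul, upperU_coe,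
        upperU_coe]
      have hn : ((n : ℕ) : k) = primeCast k p ((q : ZMod p) ^ 2) := by
        conv_rhs => rw [← ZMod.natCast_zmod_val ((q : ZMod p) ^ 2), map_natCast]
      have hdd : (Matrix.SpecialLinearGroup.map (primeCast k p) d : M2) =
          !![primeCast k p (q : ZMod p), 0; 0, primeCast k p ((q⁻¹ : (ZMod p)ˣ) : ZMod p)] := by
        ext i j
        show primeCast k p ((d : Matrix (Fin 2) (Fin 2) (ZMod p)) i j) = _
        fin_cases i <;> fin_cases j <;> first | rfl | exact map_zero _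
      have hqq : primeCast k p (q : ZMod p) * primeCast k p ((q⁻¹ : (ZMod p)ˣ) : ZMod p) = 1 := by
        rw [← map_mul, Units.mul_inv, map_one]
      rw [hdd, hn, map_pow]
      ext i j
      fin_cases i <;> fin_cases j <;>
        simp only [Matrix.mul_apply, Fin.sum_univ_two, Matrix.of_apply, Matrix.cons_val',
          Matrix.cons_val_zero, Matrix.cons_val_one, Matrix.empty_val', Matrix.cons_val_fin_one,
          Fin.zero_eta, Fin.mk_one, Fin.isValue, mul_zero, zero_mul, add_zero, zero_add, mul_one,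
          one_mul]
      linear_combination -(primeCast k p (q : ZMod p) * primeCast k p c) * hqq
    have hgd' : ψ g = adHom D := hgd
    have e1 : ψ g * ψ x = ψ x ^ n * ψ g := by
      rw [hgd', hx, ← adHom_upperU_one, ← map_pow, ← map_mul, ← map_mul, hrel]
    calc ψ (g * x * g⁻¹) = ψ x ^ n * ψ g * ψ g⁻¹ := by rw [map_mul, map_mul, e1]
      _ = ψ x ^ n := by rw [mul_assoc, ← map_mul, mul_inv_cancel, map_one, mul_one]

end CfsgLib.HalfPSL
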