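import Cfsg.Agent.Lib.HalfPSL.Basic
import Cfsg.Agent.Lib.HalfPSL.Orth
import Cfsg.Agent.Lib.Chars17.MatRep
import Cfsg.Agent.S4503

/-!
# Groups with a faithful character of degree `(p - 1) / 2`

`p ∥ |G|` with no normal subgroup of order `p`.  The character stays irreducible on the normal
closure `K` of an element `x` of order `p`; the orthogonal representation of the modular reduction
has kernel the centre and image that of `K`, which is `PSL₂(p)`.
-/

set_option autoImplicit false
set_option linter.unusedSectionVars false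
set_option linter.style.haveILetI false

noncomputable section

namespace CfsgLib.HalfPSL

open scoped Matrix

open Cfsg CfsgLib.Characters

universe u

variable {G : Type u} [Group G] [Finite G] {p : ℕ} [hp : Fact p.Prime] {x : G}

/-- A constituent of degree at least `(p - 1) / 2` on the normal closure of `x`. -/
theorem exists_large_constituent (hx : orderOf x = p) (hsq : ¬ p ^ 2 ∣ Nat.card G)
    (hnn : ∀ H : Subgroup G, H.Normal → Nat.card H ≠ p) (χ : G → ℂ) (hχ : IsCharacter G χ)
    (hfaith : ∀ g : G, χ g = χ 1 → g = 1) (hd : charDegree χ + 1 < p) :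
    ∃ (μ : IrrCharacter (Subgroup.normalClosure ({x} : Set G)) → ℕ)
      (ξ : IrrCharacter (Subgroup.normalClosure ({x} : Set G))),
      (∀ [Fintype (Subgroup.normalClosure ({x} : Set G))],
        ∀ η : IrrCharacter (Subgroup.normalClosure ({x} : Set G)),
          classInner (fun g : Subgroup.normalClosure ({x} : Set G) => χ g)
            (η : Subgroup.normalClosure ({x} : Set G) → ℂ) = μ η) ∧
      μ ξ ≠ 0 ∧ p ≤ 2 * charDegree (ξ : Subgroup.normalClosure ({x} : Set G) → ℂ) + 1 := by
  classical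
  set K := Subgroup.normalClosure ({x} : Set G)
  haveI := Fintype.ofFinite K
  have hxK : x ∈ K := Subgroup.subset_normalClosure rfl
  set y : K := ⟨x, hxK⟩ with hy
  have hyo : orderOf y = p := by rw [← Subgroup.orderOf_coe]; exact hx
  have hsqK : ¬ p ^ 2 ∣ Nat.card K := fun h => hsq (h.trans (Subgroup.card_subgroup_dvd_card K))
  have hd1 := hp.out.two_le
  have hres : IsCharacter K (fun g : K => χ g) := NormalRes.isCharacter_res K hχ
  have hfK : ∀ g : K, (fun g : K => χ g) g = (fun g : K => χ g) 1 → g = 1 := fun g hg =>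
    Subtype.ext (hfaith _ (by simpa using hg))
  have hdK : charDegree (fun g : K => χ g) = charDegree χ := by
    simp [charDegree]
  choose μ hμ using fun ξ : IrrCharacter K => classInner_char_nat hres (irr_isCharacter ξ)
  have hexp : ∀ g : K, χ g = ∑ ξ : IrrCharacter K, (μ ξ : ℂ) * (ξ : K → ℂ) g := by
    intro g
    refine (congrFun (classFunction_eq_sum (isClassFunction_of_isCharacter hres)) g).trans ?_
    simp [hμ]
  have hsum : charDegree χ = ∑ ξ : IrrCharacter K, μ ξ * charDegree (ξ : K → ℂ) := by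
    have h := hexp 1
    simp only [OneMemClass.coe_one, ← Chars17.cast_charDegree hχ, ← Chars17.cast_irrDegree] at h
    exact_mod_cast h
  -- some constituent does not have `x` in its kernel
  obtain ⟨ξ, hξμ, hξy⟩ : ∃ ξ : IrrCharacter K, μ ξ ≠ 0 ∧ (ξ : K → ℂ) y ≠ (ξ : K → ℂ) 1 := by
    by_contra hne
    push Not at hne
    have h1 : χ x = χ 1 := by
      have e1 := hexp y
      have e2 := hexp 1
      rw [OneMemClass.coe_one] at e2
      rw [hy] at e1
      rw [e1, e2]
      refine Finset.sum_congr rfl fun ξ _ => ?_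
      by_cases h : μ ξ = 0
      · simp [h]
      · rw [hne ξ h]
    have h2 := hfaith x h1
    rw [h2, orderOf_one] at hx
    exact hp.out.ne_one hx.symm
  set N := Chars17.irrKer ξ with hN
  haveI : N.Normal := Chars17.irrKer_normal ξ
  have hyN : y ∉ N := fun h => hξy (Chars17.mem_irrKer.1 h)
  have hNp : ¬ p ∣ Nat.card N :=
    not_dvd_of_notMem hsqK N (by rw [← hyo]; exact pow_orderOf_eq_one y) hyN
  -- the degree of `ξ`
  have hbound : p ≤ 2 * charDegree (ξ : K → ℂ) + 1 := by
    obtain ⟨η, hη⟩ := Chars17.exists_infl_eq (N := N) (χ := ξ) le_rfl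
    have hηd : charDegree (η : K ⧸ N → ℂ) = charDegree (ξ : K → ℂ) := by
      rw [← hη]
      show charDegree (η : K ⧸ N → ℂ) = ⌊((η : K ⧸ N → ℂ) ((1 : K) : K ⧸ N)).re⌋₊
      rfl
    have hsqQ : ¬ p ^ 2 ∣ Nat.card (K ⧸ N) := fun h =>
      hsqK (h.trans ⟨Nat.card N, by rw [← N.card_eq_card_quotient_mul_card_subgroup]⟩)
    have hyQ : orderOf (y : K ⧸ N) = p := by
      rcases (Nat.dvd_prime hp.out).1 (hyo ▸ orderOf_map_dvd (QuotientGroup.mk' N) y) with h | h
      · rw [orderOf_eq_one_iff] at h
        exact absurd ((QuotientGroup.eq_one_iff y).1 h) hyN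
      · exact h
    rw [← hηd]
    refine Cfsg.Agent.S4503.result p hp.out (hyQ ▸ orderOf_dvd_natCard (y : K ⧸ N)) hsqQ ?_ η
      (irr_isCharacter η) ?_
    · -- no normal subgroup of order `p`
      intro L hL hLc
      haveI := hL
      obtain ⟨H, hH, hHc⟩ := exists_normal_of_commute (G := G) hx hsq fun g => by
        set z : K := ⟨g * x * g⁻¹, Subgroup.normalClosure_normal.conj_mem x hxK g⟩
        have hzo : orderOf z = p := by
          rw [← Subgroup.orderOf_coe]
          exact (orderOf_injective (MulAut.conj g).toMonoidHom (MulAut.conj g).injective x).trans hx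
        have hmemL : ∀ w : K, orderOf w = p → (w : K ⧸ N) ∈ L := fun w hw =>
          mem_of_dvd_normal hsqQ L (hLc ▸ dvd_rfl) (by
            rw [← QuotientGroup.mk_pow, ← hw, pow_orderOf_eq_one, QuotientGroup.mk_one])
        haveI : IsCyclic L := isCyclic_of_prime_card hLc
        letI := IsCyclic.commGroup (α := L)
        have hcomm : ((z : K ⧸ N)) * (y : K ⧸ N) = (y : K ⧸ N) * (z : K ⧸ N) := by
          exact congrArg Subtype.val
            (mul_comm (⟨_, hmemL z hzo⟩ : L) ⟨_, hmemL y hyo⟩)
        have hc : z * y * z⁻¹ * y⁻¹ ∈ N := by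
          rw [← QuotientGroup.eq_one_iff]
          simp only [QuotientGroup.mk_mul, QuotientGroup.mk_inv]
          rw [hcomm]
          group
        exact (commute_of_commutator_mem hsqK _ hres hfK (by rw [hdK]; omega) N hNp hyo hc).map
          K.subtype
      exact hnn H hH hHc
    · intro q hq
      induction q using QuotientGroup.induction_on with | H g => ?_
      rw [QuotientGroup.eq_one_iff, hN, Chars17.mem_irrKer, ← hη]
      exact hq
  refine ⟨μ, ξ, ?_, hξμ, hbound⟩
  intro inst η
  convert hμ η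

/-- A faithful character of degree `(p - 1) / 2` is irreducible on the normal closure of `x`. -/
theorem isIrr_res_normalClosure (hx : orderOf x = p) (hsq : ¬ p ^ 2 ∣ Nat.card G)
    (hnn : ∀ H : Subgroup G, H.Normal → Nat.card H ≠ p) (χ : G → ℂ) (hχ : IsCharacter G χ)
    (hfaith : ∀ g : G, χ g = χ 1 → g = 1) (hdeg : 2 * charDegree χ + 1 = p) :
    IsIrrCharacter (Subgroup.normalClosure ({x} : Set G))
      fun g : Subgroup.normalClosure ({x} : Set G) => χ g := by
  classical
  haveI hKn : (Subgroup.normalClosure ({x} : Set G)).Normal := Subgroup.normalClosure_normal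
  obtain ⟨μ, ξ, hμ, hξμ, hbound⟩ := exists_large_constituent hx hsq hnn χ hχ hfaith (by
    have := hp.out.two_le
    by_contra hlt
    have h0 : charDegree χ = 0 := by omega
    omega)
  revert μ ξ hKn
  generalize Subgroup.normalClosure ({x} : Set G) = K
  intro hKn μ ξ hμ hξμ hbound
  haveI := Fintype.ofFinite K
  have hres : IsCharacter K (fun g : K => χ g) := NormalRes.isCharacter_res K hχ
  have hexp : ∀ g : K, χ g = ∑ ξ : IrrCharacter K, (μ ξ : ℂ) * (ξ : K → ℂ) g := by
    intro g
    refine (congrFun (classFunction_eq_sum (isClassFunction_of_isCharacter hres)) g).trans ?_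
    simp only [Finset.sum_apply, Pi.smul_apply, smul_eq_mul]
    exact Finset.sum_congr rfl fun η _ => by rw [hμ η]
  have hsum : charDegree χ = ∑ ξ : IrrCharacter K, μ ξ * charDegree (ξ : K → ℂ) := by
    have h := hexp 1
    simp only [OneMemClass.coe_one, ← Chars17.cast_charDegree hχ, ← Chars17.cast_irrDegree] at h
    exact_mod_cast h
  -- it is the only constituent
  have hξpos : 0 < charDegree (ξ : K → ℂ) := Chars17.irrDegree_pos ξ
  have hμξ : μ ξ = 1 ∧ ∀ η, η ≠ ξ → μ η = 0 := by
    have hsplit := Finset.add_sum_erase Finset.univ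
      (fun η : IrrCharacter K => μ η * charDegree (η : K → ℂ)) (Finset.mem_univ ξ)
    rw [← hsum] at hsplit
    have hle : charDegree (ξ : K → ℂ) ≤ μ ξ * charDegree (ξ : K → ℂ) :=
      Nat.le_mul_of_pos_left _ (Nat.pos_of_ne_zero hξμ)
    have heq : μ ξ * charDegree (ξ : K → ℂ) = charDegree (ξ : K → ℂ) := by omega
    refine ⟨?_, fun η hη => ?_⟩
    · exact Nat.eq_of_mul_eq_mul_right hξpos (heq.trans (one_mul _).symm)
    · have h0 : ∑ η ∈ Finset.univ.erase ξ, μ η * charDegree (η : K → ℂ) = 0 := by omega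
      have := (Finset.sum_eq_zero_iff.1 h0) η (Finset.mem_erase.2 ⟨hη, Finset.mem_univ η⟩)
      exact (mul_eq_zero.1 this).resolve_right (Chars17.irrDegree_pos η).ne'
  have : (fun g : K => χ g) = (ξ : K → ℂ) := by
    funext g
    rw [hexp, Finset.sum_eq_single ξ (fun η _ hη => by rw [hμξ.2 η hη]; simp)
      (fun h => absurd (Finset.mem_univ _) h), hμξ.1, Nat.cast_one, one_mul]
  rw [this]
  exact ξ.2

/-- A faithful irreducible character of degree less than `p - 1` is irreducible on the normal
closure of `x`. -/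
theorem isIrr_res_of_irr (hx : orderOf x = p) (hsq : ¬ p ^ 2 ∣ Nat.card G)
    (hnn : ∀ H : Subgroup G, H.Normal → Nat.card H ≠ p) (χ : IrrCharacter G)
    (hfaith : ∀ g : G, (χ : G → ℂ) g = (χ : G → ℂ) 1 → g = 1)
    (hd : charDegree (χ : G → ℂ) + 1 < p) :
    IsIrrCharacter (Subgroup.normalClosure ({x} : Set G))
      fun g : Subgroup.normalClosure ({x} : Set G) => (χ : G → ℂ) g := by
  classical
  have hχ : IsCharacter G (χ : G → ℂ) := irr_isCharacter χ
  haveI hKn : (Subgroup.normalClosure ({x} : Set G)).Normal := Subgroup.normalClosure_normal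
  obtain ⟨μ, ξ, hμ, hξμ, hbound⟩ := exists_large_constituent hx hsq hnn _ hχ hfaith hd
  revert μ ξ hKn
  generalize Subgroup.normalClosure ({x} : Set G) = K
  intro hKn μ ξ hμ hξμ hbound
  haveI := Fintype.ofFinite K
  have hres : IsCharacter K (fun g : K => (χ : G → ℂ) g) := NormalRes.isCharacter_res K hχ
  have hexp : ∀ g : K, (χ : G → ℂ) g = ∑ η : IrrCharacter K, (μ η : ℂ) * (η : K → ℂ) g := by
    intro g
    refine (congrFun (classFunction_eq_sum (isClassFunction_of_isCharacter hres)) g).trans ?_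
    simp only [Finset.sum_apply, Pi.smul_apply, smul_eq_mul]
    exact Finset.sum_congr rfl fun η _ => by rw [hμ η]
  have hsum : charDegree (χ : G → ℂ) = ∑ η : IrrCharacter K, μ η * charDegree (η : K → ℂ) := by
    have h := hexp 1
    simp only [OneMemClass.coe_one, ← Chars17.cast_charDegree hχ, ← Chars17.cast_irrDegree] at h
    exact_mod_cast h
  have hsplit := Finset.add_sum_erase Finset.univ
    (fun η : IrrCharacter K => μ η * charDegree (η : K → ℂ)) (Finset.mem_univ ξ)
  rw [← hsum] at hsplit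
  have hle : charDegree (ξ : K → ℂ) ≤ μ ξ * charDegree (ξ : K → ℂ) :=
    Nat.le_mul_of_pos_left _ (Nat.pos_of_ne_zero hξμ)
  have hother : ∀ η, η ≠ ξ → μ η = 0 := by
    intro η hη
    by_contra h0
    obtain ⟨g, hg⟩ := NormalRes.exists_conj_of_constituents K χ (θ := ξ) (η := η)
      (by unfold NormalRes.mult; rw [hμ]; exact_mod_cast hξμ)
      (by unfold NormalRes.mult; rw [hμ]; exact_mod_cast h0)
    have hdeg : charDegree (η : K → ℂ) = charDegree (ξ : K → ℂ) := by
      have h1 : (η : K → ℂ) 1 = (ξ : K → ℂ) 1 := by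
        rw [← hg, NormalRes.twist_apply_eq]
        refine congrArg _ (Subtype.ext ?_)
        simp
      rw [← Chars17.cast_irrDegree, ← Chars17.cast_irrDegree] at h1
      exact_mod_cast h1
    have := Finset.single_le_sum (f := fun η : IrrCharacter K => μ η * charDegree (η : K → ℂ))
      (fun _ _ => Nat.zero_le _) (Finset.mem_erase.2 ⟨hη, Finset.mem_univ η⟩)
    have h2 : charDegree (η : K → ℂ) ≤ μ η * charDegree (η : K → ℂ) :=
      Nat.le_mul_of_pos_left _ (Nat.pos_of_ne_zero h0)
    omega
  have hone : μ ξ = 1 := by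
    have h0 : ∑ η ∈ Finset.univ.erase ξ, μ η * charDegree (η : K → ℂ) = 0 :=
      Finset.sum_eq_zero fun η hη => by rw [hother η (Finset.mem_erase.1 hη).1, zero_mul]
    rw [h0, add_zero] at hsplit
    by_contra hne
    have h2 : 2 * charDegree (ξ : K → ℂ) ≤ μ ξ * charDegree (ξ : K → ℂ) :=
      Nat.mul_le_mul_right _ (by omega)
    omega
  have : (fun g : K => (χ : G → ℂ) g) = (ξ : K → ℂ) := by
    funext g
    rw [hexp, Finset.sum_eq_single ξ (fun η _ hη => by rw [hother η hη]; simp)
      (fun h => absurd (Finset.mem_univ _) h), hone, Nat.cast_one, one_mul]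
  rw [this]
  exact ξ.2

/-- A faithful character that is irreducible on the normal closure of `x` detects the centre: an
element commuting with all conjugates of `x` is central. -/
theorem mem_center_of_commute_conj (χ : G → ℂ) (hχ : IsCharacter G χ)
    (hfaith : ∀ g : G, χ g = χ 1 → g = 1)
    (hirr : IsIrrCharacter (Subgroup.normalClosure ({x} : Set G))
      fun g : Subgroup.normalClosure ({x} : Set G) => χ g)
    {c : G} (hc : ∀ g, Commute c (g * x * g⁻¹)) : c ∈ Subgroup.center G := by
  classical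
  set K := Subgroup.normalClosure ({x} : Set G)
  obtain ⟨n, ρ, hρ⟩ := id hχ
  let Rc : G →* Matrix (Fin n) (Fin n) ℂ :=
    (LinearMap.toMatrixAlgEquiv' : _ ≃ₐ[ℂ] _).toAlgHom.toMonoidHom.comp ρ
  have htr : ∀ g, (Rc g).trace = χ g := fun g => by
    rw [← hρ]
    exact (LinearMap.trace_eq_matrix_trace ℂ (Pi.basisFun ℂ (Fin n)) (ρ g)).symm
  have hinjR : ∀ g, Rc g = 1 → g = 1 := fun g hg => hfaith g (by rw [← htr, ← htr, hg, map_one])
  have hcK : ∀ g ∈ K, Commute c g := by
    intro g hg
    induction hg using Subgroup.closure_induction with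
    | mem z hz =>
      obtain ⟨a, ha, haz⟩ := Group.mem_conjugatesOfSet_iff.1 hz
      rw [Set.mem_singleton_iff.1 ha] at haz
      obtain ⟨b, hb⟩ := isConj_iff.1 haz
      rw [← hb]
      exact hc b
    | one => exact Commute.one_right c
    | mul a b _ _ h1 h2 => exact h1.mul_right h2
    | inv a _ h1 => exact h1.inv_right
  obtain ⟨s, hs⟩ := CfsgLib.Chars17.scalar_of_commute (Rc.comp K.subtype)
    (by simpa [htr] using hirr) (Q := Rc c) fun g => by
      show Rc (g : G) * Rc c = Rc c * Rc (g : G)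
      rw [← map_mul, ← map_mul, (hcK g g.2).eq]
  rw [Subgroup.mem_center_iff]
  intro g
  refine mul_inv_eq_one.1 (hinjR _ ?_)
  have hcomm : Rc g * Rc c = Rc c * Rc g := by
    rw [hs, mul_smul_comm, mul_one, smul_mul_assoc, one_mul]
  have hci : Rc c * Rc c⁻¹ = 1 := by rw [← map_mul, mul_inv_cancel, map_one]
  have hgi : Rc g * Rc g⁻¹ = 1 := by rw [← map_mul, mul_inv_cancel, map_one]
  rw [mul_inv_rev, map_mul, map_mul, map_mul, hcomm, mul_assoc, ← mul_assoc (Rc g), hgi, one_mul,
    hci]

/-- A reduction modulo `p` of a faithful character: `x` stays nontrivial, and `p`-th roots of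
unity annihilating `x` give its nilpotency index. -/
theorem exists_reduction (hx : orderOf x = p) (hsq : ¬ p ^ 2 ∣ Nat.card G)
    (hnn : ∀ H : Subgroup G, H.Normal → Nat.card H ≠ p) (χ : G → ℂ) (hχ : IsCharacter G χ)
    (hfaith : ∀ g : G, χ g = χ 1 → g = 1) :
    ∃ (kk : Type) (_ : Field kk) (_ : CharP kk p)
      (ρk : Representation kk G (Fin (charDegree χ) → kk)), ρk x ≠ 1 ∧
      ∀ s : Finset ℂ, (∀ z ∈ s, z ^ p = 1) →
        (∀ (m : ℕ) (ρ : Representation ℂ G (Fin m → ℂ)), ρ.character = χ →
          Polynomial.aeval (ρ x) (∏ z ∈ s, (Polynomial.X - Polynomial.C z)) = 0) →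
        (ρk x - 1) ^ s.card = 0 := by
  classical
  haveI := Fintype.ofFinite G
  have hxp : x ^ p = 1 := by rw [← hx]; exact pow_orderOf_eq_one x
  obtain ⟨n, ρ, hρ⟩ := id hχ
  -- an integral form and its reduction
  obtain ⟨M, -, O, hpO, -⟩ := SmallTensor.exists_valuation_above p
  obtain ⟨N, ε, R, hR⟩ := CfsgLib.IntegralForm.exists_integral_matrices O ρ
  set Rc : G →* Matrix (Fin N) (Fin N) ℂ :=
    (RingHom.mapMatrix O.subtype : Matrix (Fin N) (Fin N) O →+* _).toMonoidHom.comp R
  have htr : ∀ g, (Rc g).trace = χ g := by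
    intro g
    rw [← hρ]
    have hconj : ρ g = (ε.symm.conj (Matrix.toLin' ((R g).map fun a : O => (a : ℂ)))) := by
      refine LinearMap.ext fun w => ?_
      rw [LinearEquiv.conj_apply, LinearMap.comp_apply, LinearMap.comp_apply]
      apply ε.injective
      simp [hR g w, Matrix.toLin'_apply]
    rw [Representation.character, hconj, LinearMap.trace_conj', Matrix.trace_toLin'_eq]
    rfl
  have hNd : N = charDegree χ := by
    have h := htr 1
    rw [map_one, Matrix.trace_one, Fintype.card_fin, ← Chars17.cast_charDegree hχ] at h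
    exact_mod_cast h
  have hinjR : ∀ g, Rc g = 1 → g = 1 := fun g hg => hfaith g (by rw [← htr, ← htr, hg, map_one])
  let kk := IsLocalRing.ResidueField O
  haveI : CharP kk p := by
    refine (CharP.charP_iff_prime_eq_zero hp.out).2 ?_
    rw [← map_natCast (IsLocalRing.residue O)]
    exact Ideal.Quotient.eq_zero_iff_mem.2 hpO
  let ρk : Representation kk G (Fin N → kk) :=
    { toFun := fun g => Matrix.toLinAlgEquiv' ((R g).map (IsLocalRing.residue O))
      map_one' := by
        rw [map_one, Matrix.map_one _ (map_zero _) (map_one _), map_one]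
      map_mul' := fun g h => by rw [map_mul, Matrix.map_mul, map_mul] }
  have hker : ∀ g, ρk g = 1 → orderOf g ∣ p ^ (Nat.card G) := by
    intro g hg
    by_contra hno
    obtain ⟨q, hq, hqd, hqp⟩ : ∃ q, q.Prime ∧ q ∣ orderOf g ∧ q ≠ p := by
      by_contra hall
      push Not at hall
      obtain ⟨a, ha⟩ : ∃ a, orderOf g = p ^ a :=
        ⟨_, Nat.eq_prime_pow_of_unique_prime_dvd (orderOf_pos g).ne' fun {d} h1 h2 => hall d h1 h2⟩
      refine hno (ha ▸ pow_dvd_pow p ?_)
      exact ((Nat.lt_pow_self hp.out.one_lt).le).trans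
        (ha ▸ Nat.le_of_dvd Nat.card_pos (orderOf_dvd_natCard g))
    set g' := g ^ (orderOf g / q) with hg'
    have hg'o : orderOf g' = q := orderOf_pow_orderOf_div (orderOf_pos g).ne' hqd
    have hg'1 : ρk g' = 1 := by rw [hg', map_pow, hg, one_pow]
    have hmap : (R g').map (IsLocalRing.residue O) = 1 :=
      Matrix.toLinAlgEquiv'.injective (hg'1.trans (map_one Matrix.toLinAlgEquiv').symm)
    have hu : IsUnit (q : O) := by
      rw [← IsLocalRing.residue_ne_zero_iff_isUnit, map_natCast, Ne, CharP.cast_eq_zero_iff kk p]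
      intro h
      exact hqp ((Nat.prime_dvd_prime_iff_eq hp.out hq).1 h).symm
    have h1 : R g' = 1 := eq_one_of_map_eq_one hu
      (by rw [← map_pow, ← hg'o, pow_orderOf_eq_one, map_one]) hmap
    have h2 := hinjR g' (by simp [Rc, h1])
    rw [h2, orderOf_one] at hg'o
    exact hq.ne_one hg'o.symm
  have hx1 : ρk x ≠ 1 := by
    intro h
    obtain ⟨H, hH, hHc⟩ : ∃ H : Subgroup G, H.Normal ∧ Nat.card H = p := by
      refine ⟨(ρk : G →* _).ker, inferInstance, ?_⟩
      have hxk : x ∈ (ρk : G →* _).ker := h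
      have hpg : IsPGroup p (ρk : G →* _).ker := fun z => ⟨Nat.card G, Subtype.ext (by
        rw [SubmonoidClass.coe_pow]
        exact orderOf_dvd_iff_pow_eq_one.1 (hker z z.2))⟩
      obtain ⟨m, hm⟩ := IsPGroup.iff_card.1 hpg
      have h1 : p ∣ p ^ m := hm ▸ hx ▸ Subgroup.orderOf_dvd_natCard _ hxk
      have h2 : m ≠ 0 := by
        rintro rfl
        exact hp.out.ne_one (Nat.dvd_one.1 (by simpa using h1))
      have h3 : ¬ 2 ≤ m := fun h3 =>
        hsq ((pow_dvd_pow p h3).trans (hm ▸ Subgroup.card_subgroup_dvd_card _))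
      rw [hm, show m = 1 by omega, pow_one]
    exact hnn H hH hHc
  subst hNd
  refine ⟨kk, inferInstance, inferInstance, ρk, hx1, fun s hs hann => ?_⟩
  have hann := hann _ ρ hρ
  have hO : ∀ z ∈ s, z ∈ O := fun z hz => by
    rw [← O.valuation_le_one_iff]
    refine le_of_eq (pow_eq_one_iff_of_nonneg zero_le hp.out.ne_zero |>.1 ?_)
    rw [← map_pow, hs z hz, map_one]
  let P : Polynomial O := ∏ z ∈ s.attach, (Polynomial.X - Polynomial.C ⟨z.1, hO z.1 z.2⟩)
  have hPC : P.map O.subtype = ∏ z ∈ s, (Polynomial.X - Polynomial.C z) := by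
    rw [← Finset.prod_attach s, Polynomial.map_prod]
    exact Finset.prod_congr rfl fun z _ => by simp
  have hPk : P.map (IsLocalRing.residue O) = (Polynomial.X - 1) ^ s.card := by
    rw [Polynomial.map_prod, Finset.prod_congr rfl (g := fun _ => Polynomial.X - 1) fun z _ => ?_,
      Finset.prod_const, Finset.card_attach]
    have h1 : IsLocalRing.residue O ⟨z.1, hO z.1 z.2⟩ ^ p = 1 := by
      rw [← map_pow, show (⟨z.1, hO z.1 z.2⟩ : O) ^ p = 1 from Subtype.ext (hs z.1 z.2), map_one]
    have h2 : (IsLocalRing.residue O ⟨z.1, hO z.1 z.2⟩ - 1) ^ p = 0 := by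
      rw [sub_pow_char, h1, one_pow, sub_self]
    rw [Polynomial.map_sub, Polynomial.map_X, Polynomial.map_C,
      sub_eq_zero.1 (pow_eq_zero_iff hp.out.ne_zero |>.1 h2), Polynomial.C_1]
  have hRP : Polynomial.aeval (R x) P = 0 := by
    have hmap : Polynomial.aeval (Rc x) (P.map O.subtype) = 0 := by
      have hconj : Rc x = LinearMap.toMatrixAlgEquiv' (ε.conjAlgEquiv ℂ (ρ x)) := by
        have : ε.conjAlgEquiv ℂ (ρ x) = Matrix.toLinAlgEquiv' (Rc x) := by
          refine LinearMap.ext fun w => ?_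
          simp [LinearEquiv.conjAlgEquiv_apply, Rc, hR, Matrix.toLinAlgEquiv'_apply]
        rw [this, LinearMap.toMatrixAlgEquiv'_toLinAlgEquiv']
      rw [hPC, hconj, Polynomial.aeval_algHom_apply, Polynomial.aeval_algHom_apply, hann,
        map_zero, map_zero]
    have hinjM : Function.Injective
        (RingHom.mapMatrix O.subtype : Matrix (Fin (charDegree χ)) (Fin (charDegree χ)) O →+* _) :=
      Matrix.map_injective Subtype.coe_injective
    refine hinjM ?_
    rw [map_zero, ← hmap, Polynomial.aeval_def, Polynomial.aeval_def, Polynomial.eval₂_map,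
      Polynomial.hom_eval₂]
    congr 1
    exact RingHom.ext fun a => by
      ext i j
      by_cases h : i = j <;> simp [Matrix.algebraMap_matrix_apply, h]
  have hk : Polynomial.aeval ((R x).map (IsLocalRing.residue O)) (P.map (IsLocalRing.residue O)) = 0 := by
    have h1 := congrArg (RingHom.mapMatrix (IsLocalRing.residue O)) hRP
    rw [map_zero, Polynomial.aeval_def, Polynomial.hom_eval₂] at h1
    rw [Polynomial.aeval_def, Polynomial.eval₂_map]
    rw [← h1]
    congr 1
    exact RingHom.ext fun a => by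
      ext i j
      by_cases h : i = j <;> simp [Matrix.algebraMap_matrix_apply, h]
  rw [hPk, map_pow, map_sub, Polynomial.aeval_X, map_one] at hk
  have h2 := congrArg Matrix.toLinAlgEquiv' hk
  rw [map_pow, map_sub, map_one, map_zero] at h2
  exact h2

/-- `G / Z(G)` is `PSL₂(p)`, given the three dimensional orthogonal representation. -/
theorem psl_core {kk : Type*} [Field kk] [CharP kk p] (hx : orderOf x = p)
    (hsq : ¬ p ^ 2 ∣ Nat.card G) (hnn : ∀ H : Subgroup G, H.Normal → Nat.card H ≠ p) (χ : G → ℂ)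
    (hχ : IsCharacter G χ) (hfaith : ∀ g : G, χ g = χ 1 → g = 1)
    (hd : charDegree χ + 1 < p) (hp5 : 5 ≤ p)
    (hirr : IsIrrCharacter (Subgroup.normalClosure ({x} : Set G))
      fun g : Subgroup.normalClosure ({x} : Set G) => χ g)
    (ψ : G →* Matrix (Fin 3) (Fin 3) kk) (hiso : ∀ g, (ψ g)ᵀ * gram * ψ g = gram)
    (hψx : ψ x = regUnip) (hψV : ∀ v, Commute v x → ¬ p ∣ orderOf v → ψ v = 1) :
    Nonempty ((G ⧸ Subgroup.center G) ≃*
      Matrix.ProjectiveSpecialLinearGroup (Fin 2) (ZMod p)) := by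
  classical
  haveI := Fintype.ofFinite G
  have hxp : x ^ p = 1 := by rw [← hx]; exact pow_orderOf_eq_one x
  set K := Subgroup.normalClosure ({x} : Set G)
  have hxK : x ∈ K := Subgroup.subset_normalClosure rfl
  haveI := Fintype.ofFinite K
  have hKc : ∀ c : G, (∀ g, Commute c (g * x * g⁻¹)) → c ∈ Subgroup.center G :=
    fun c hc => mem_center_of_commute_conj χ hχ hfaith hirr hc
  have hne : ψ x ≠ 1 := by
    intro h
    rw [hψx] at h
    have := congrFun (congrFun h 1) 2
    simp [regUnip] at this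
  have hkerp : ¬ p ∣ Nat.card ψ.ker := not_dvd_of_notMem hsq ψ.ker hxp hne
  have hnc : ∃ h, ¬ Commute (ψ (h * x * h⁻¹)) (ψ x) := by
    by_contra hall
    push Not at hall
    obtain ⟨H, hH, hHc⟩ := exists_normal_of_commute hx hsq fun g => by
      refine commute_of_commutator_mem hsq χ hχ hfaith (by omega) ψ.ker hkerp hx ?_
      rw [MonoidHom.mem_ker, map_mul, map_mul, map_mul, (hall g).eq, mul_assoc (ψ x),
        ← map_mul ψ (g * x * g⁻¹), mul_inv_cancel, map_one, mul_one, ← map_mul, mul_inv_cancel,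
        map_one]
    exact hnn H hH hHc
  obtain ⟨Φ, hΦker, hΦK, hΦ, hΦq⟩ := exists_psl ψ hiso hψx hx hsq hp5 hnc
  -- the kernel is the centre
  have hkerc : ψ.ker = Subgroup.center G := by
    refine le_antisymm (fun c hc => hKc c fun g => ?_) fun z hz => ?_
    · exact PrimeDefect.commute_of_small
        ((orderOf_injective (MulAut.conj g).toMonoidHom (MulAut.conj g).injective x).trans hx) hsq χ
        hχ hfaith (by omega) ψ.ker hkerp hc
    · refine hψV z ((Subgroup.mem_center_iff.1 hz x).symm) fun hd => ?_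
      set w := z ^ (orderOf z / p) with hw
      have hwo : orderOf w = p := orderOf_pow_orderOf_div (orderOf_pos z).ne' hd
      have hwc : w ∈ Subgroup.center G := pow_mem hz _
      refine hnn (Subgroup.zpowers w) ⟨fun a ha g => ?_⟩ (by rw [Nat.card_zpowers, hwo])
      have hac : a ∈ Subgroup.center G := Subgroup.zpowers_le.2 hwc ha
      rwa [Subgroup.mem_center_iff.1 hac g, mul_inv_cancel_right]
  -- the conjugates of `x` among its powers
  have hexact : ∀ (g : G) (i : ℕ), ψ (g * x * g⁻¹) = ψ x ^ i → g * x * g⁻¹ = x ^ i := by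
    intro g i h
    set z := g * x * g⁻¹ * (x ^ i)⁻¹ with hz
    have hz1 : z ∈ Subgroup.center G := by
      rw [← hkerc, MonoidHom.mem_ker, hz, map_mul, h, ← map_pow, ← map_mul, mul_inv_cancel, map_one]
    have e : g * x * g⁻¹ = z * x ^ i := by rw [hz, inv_mul_cancel_right]
    have hzp : z ^ p = 1 := by
      have h1 : (z * x ^ i) ^ p = 1 := by
        rw [← e, conj_pow, hxp, mul_one, mul_inv_cancel]
      rwa [(show Commute z (x ^ i) from (Subgroup.mem_center_iff.1 hz1 _).symm).mul_pow,
        ← pow_mul, mul_comm i, pow_mul, hxp, one_pow, mul_one] at h1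
    have hz0 : z = 1 := by
      rcases (Nat.dvd_prime hp.out).1 (orderOf_dvd_of_pow_eq_one hzp) with h2 | h2
      · exact orderOf_eq_one_iff.1 h2
      · exact absurd (h2 ▸ Subgroup.orderOf_dvd_natCard ψ.ker (hkerc.symm ▸ hz1)) hkerp
    rw [e, hz0, one_mul]
  have hsquare : ∀ q : (ZMod p)ˣ, ∃ g ∈ K, g * x * g⁻¹ = x ^ ((q : ZMod p) ^ 2).val :=
    fun q => by
      obtain ⟨g, hg, h⟩ := hΦq q
      exact ⟨g, hg, hexact g _ h⟩
  -- the image is that of `K`
  have himage : ∀ g : G, ∃ m ∈ K, ψ m = ψ g := by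
    intro g
    set C := Subgroup.centralizer ({x} : Set G)
    obtain ⟨V, D⟩ := PrimeDefect.exists_data hx hsq
    -- Frattini
    have hgK : g * x * g⁻¹ ∈ K := Subgroup.normalClosure_normal.conj_mem x hxK g
    obtain ⟨m, hm, hmn⟩ : ∃ m ∈ K, m⁻¹ * g ∈ PrimeDefect.nrm x := by
      set y : K := ⟨x, hxK⟩
      set z : K := ⟨g * x * g⁻¹, hgK⟩
      have hyo : orderOf y = p := by rw [← Subgroup.orderOf_coe]; exact hx
      have hzo : orderOf z = p := by
        rw [← Subgroup.orderOf_coe]
        exact (orderOf_injective (MulAut.conj g).toMonoidHom (MulAut.conj g).injective x).trans hx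
      have hsqK : ¬ p ^ 2 ∣ Nat.card K := fun h =>
        hsq (h.trans (Subgroup.card_subgroup_dvd_card K))
      have hpg : ∀ w : K, orderOf w = p → IsPGroup p (Subgroup.zpowers w) := fun w hw =>
        IsPGroup.of_card (n := 1) (by rw [Nat.card_zpowers, hw, pow_one])
      have hmax : ∀ w : K, orderOf w = p → ∀ P : Sylow p K, Subgroup.zpowers w ≤ P →
          Subgroup.zpowers w = P := by
        intro w hw P hP
        refine Subgroup.eq_of_le_of_card_ge hP ?_
        obtain ⟨j, hj⟩ := IsPGroup.iff_card.1 P.isPGroup'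
        rw [hj, Nat.card_zpowers, hw]
        have : j ≤ 1 := by
          by_contra hj2
          exact hsqK ((pow_dvd_pow p (by omega : 2 ≤ j)).trans
            (hj ▸ Subgroup.card_subgroup_dvd_card _))
        exact (Nat.pow_le_pow_right hp.out.pos this).trans (pow_one p).le
      obtain ⟨P, hP⟩ := (hpg y hyo).exists_le_sylow
      obtain ⟨Q, hQ⟩ := (hpg z hzo).exists_le_sylow
      obtain ⟨a, ha⟩ := MulAction.exists_smul_eq K P Q
      have h1 := congrArg (fun S : Sylow p K => (S : Subgroup K).map K.subtype) ha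
      rw [Sylow.coe_subgroup_smul, ← hmax y hyo P hP, ← hmax z hzo Q hQ] at h1
      refine ⟨a, a.2, ?_⟩
      have h2 : (Subgroup.zpowers x).map (MulAut.conj (a : G)).toMonoidHom =
          (Subgroup.zpowers x).map (MulAut.conj g).toMonoidHom := by
        rw [Subgroup.pointwise_smul_def] at h1
        change Subgroup.map K.subtype ((Subgroup.zpowers y).map (MulAut.conj a).toMonoidHom) =
          (Subgroup.zpowers z).map K.subtype at h1
        rw [Subgroup.map_map, MonoidHom.map_zpowers, MonoidHom.map_zpowers] at h1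
        rw [MonoidHom.map_zpowers, MonoidHom.map_zpowers]
        exact h1
      show (a : G)⁻¹ * g ∈ Subgroup.normalizer ((Subgroup.zpowers x : Subgroup G) : Set G)
      have h3 : (Subgroup.zpowers x).map (MulAut.conj ((a : G)⁻¹ * g)).toMonoidHom =
          Subgroup.zpowers x := by
        rw [map_mul, show ((MulAut.conj (a : G)⁻¹ * MulAut.conj g).toMonoidHom : G →* G) =
          (MulAut.conj (a : G)⁻¹).toMonoidHom.comp (MulAut.conj g).toMonoidHom from rfl,
          ← Subgroup.map_map, ← h2, Subgroup.map_map]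
        convert Subgroup.map_id _
        ext w
        simp [mul_assoc]
      rw [Subgroup.mem_normalizer_iff]
      intro w
      constructor
      · intro hw
        rw [← h3]
        exact ⟨w, hw, rfl⟩
      · intro hw
        rw [← h3] at hw
        obtain ⟨w', hw', hww⟩ := hw
        rwa [← (MulAut.conj ((a : G)⁻¹ * g)).injective hww]
    set nn := m⁻¹ * g
    set u := D.mu ⟨nn, hmn⟩
    have hnu : nn * x * nn⁻¹ = x ^ (u : ZMod p).val := D.mu_spec ⟨nn, hmn⟩
    -- `u` is a square
    obtain ⟨q, hq⟩ : ∃ q : (ZMod p)ˣ, (q : ZMod p) ^ 2 = u := by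
      by_contra hnsq
      push Not at hnsq
      have hu2 : ¬ IsSquare (u : ZMod p) := by
        rintro ⟨r, hr⟩
        have hr0 : r ≠ 0 := fun h => u.ne_zero (by rw [hr, h, mul_zero])
        exact hnsq (Units.mk0 r hr0) (by rw [Units.val_mk0, sq, ← hr])
      have hall : ∀ v : (ZMod p)ˣ, ∃ g : G, g * x * g⁻¹ = x ^ (v : ZMod p).val := by
        intro v
        by_cases hv : IsSquare (v : ZMod p)
        · obtain ⟨r, hr⟩ := hv
          have hr0 : r ≠ 0 := fun h => v.ne_zero (by rw [hr, h, mul_zero])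
          obtain ⟨g, -, hg⟩ := hsquare (Units.mk0 r hr0)
          exact ⟨g, by rw [hg, Units.val_mk0, sq, ← hr]⟩
        · obtain ⟨r, hr⟩ : IsSquare ((v : ZMod p) * (u : ZMod p)⁻¹) := by
            have h2 : ringChar (ZMod p) ≠ 2 := by rw [ZMod.ringChar_zmod_n]; omega
            have e1 := (quadraticChar_neg_one_iff_not_isSquare (F := ZMod p)).2 hv
            have e2 := (quadraticChar_neg_one_iff_not_isSquare (F := ZMod p)).2 hu2
            have hne0 : (v : ZMod p) * (u : ZMod p)⁻¹ ≠ 0 :=
              mul_ne_zero v.ne_zero (inv_ne_zero u.ne_zero)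
            refine (quadraticChar_one_iff_isSquare hne0).1 ?_
            have e3 := quadraticChar_sq_one (F := ZMod p) (inv_ne_zero u.ne_zero)
            have e4 : quadraticChar (ZMod p) ((u : ZMod p)⁻¹) * quadraticChar (ZMod p) (u : ZMod p)
                = 1 := by rw [← map_mul, inv_mul_cancel₀ u.ne_zero, map_one]
            rw [map_mul, e1]
            rw [e2] at e4
            linarith
          have hr0 : r ≠ 0 := fun h =>
            mul_ne_zero v.ne_zero (inv_ne_zero u.ne_zero) (by rw [hr, h, mul_zero])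
          obtain ⟨g, -, hg⟩ := hsquare (Units.mk0 r hr0)
          refine ⟨g * nn, ?_⟩
          rw [mul_inv_rev, show g * nn * x * (nn⁻¹ * g⁻¹) = g * (nn * x * nn⁻¹) * g⁻¹ by group, hnu,
            ← conj_pow, hg, Units.val_mk0, sq, ← hr, ← pow_mul, ← pow_mod_orderOf, hx, ← ZMod.val_mul,
            mul_assoc, inv_mul_cancel₀ u.ne_zero, mul_one]
      have hconst : ∀ i : ℕ, i % p ≠ 0 → χ (x ^ i) = χ x := by
        intro i hi
        have hi0 : (i : ZMod p) ≠ 0 := fun h => hi (Nat.mod_eq_zero_of_dvd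
          ((ZMod.natCast_eq_zero_iff i p).1 h))
        obtain ⟨g, hg⟩ := hall (Units.mk0 _ hi0)
        rw [Units.val_mk0, ZMod.val_natCast, ← hx, pow_mod_orderOf] at hg
        rw [← hg]
        exact isClassFunction_of_isCharacter hχ x g
      have h1 := apply_eq_one_of_rational hx χ hχ (by omega) hconst
      have h2 := hfaith x h1
      rw [h2, orderOf_one] at hx
      exact hp.out.ne_one hx.symm
    obtain ⟨l, hl, hlx⟩ := hsquare q
    rw [hq] at hlx
    -- the centraliser part
    set c := l⁻¹ * nn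
    have hc : c ∈ C := by
      rw [Subgroup.mem_centralizer_singleton_iff]
      have h1 : c * x * c⁻¹ = x := by
        rw [show c * x * c⁻¹ = l⁻¹ * (nn * x * nn⁻¹) * l by simp [c, mul_assoc], hnu, ← hlx]
        group
      rwa [mul_inv_eq_iff_eq_mul] at h1
    obtain ⟨i, hi⟩ := D.exists_decomp hc
    set v := (SelfCentralPrime.pw x i)⁻¹ * c
    have hv : ψ v = 1 := hψV v (D.mem_C_iff.1 (D.V_le hi)) (D.regular hi)
    refine ⟨m * l * SelfCentralPrime.pw x i, mul_mem (mul_mem hm hl) (pow_mem hxK _), ?_⟩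
    have e : g = m * l * (SelfCentralPrime.pw x i) * v := by simp [v, c, nn, mul_assoc]
    conv_rhs => rw [e, map_mul, hv, mul_one]
  -- the isomorphism
  have hrange : ψ.toHomUnits.range = Φ.toHomUnits.range := by
    ext w
    constructor
    · rintro ⟨g, rfl⟩
      obtain ⟨m, hm, hmg⟩ := himage g
      obtain ⟨s, hs⟩ := hΦK m hm
      exact ⟨s, Units.ext (by simp [hs, hmg])⟩
    · rintro ⟨s, rfl⟩
      obtain ⟨g, -, hg⟩ := hΦ s
      exact ⟨g, Units.ext (by simp [hg])⟩
  have h1 : ψ.toHomUnits.ker = Subgroup.center G := by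
    rw [← hkerc]
    ext g
    simp [MonoidHom.mem_ker]
  have h2 : Φ.toHomUnits.ker =
      Subgroup.center (Matrix.SpecialLinearGroup (Fin 2) (ZMod p)) := by
    ext s
    simp [MonoidHom.mem_ker, hΦker]
  exact ⟨(QuotientGroup.quotientMulEquivOfEq h1.symm).trans
    ((QuotientGroup.quotientKerEquivRange _).trans ((MulEquiv.subgroupCongr hrange).trans
      ((QuotientGroup.quotientKerEquivRange _).symm.trans
        (QuotientGroup.quotientMulEquivOfEq h2))))⟩


/-- **Brauer**: `G / Z(G)` is `PSL₂(p)`. -/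
theorem psl_of_half (hx : orderOf x = p) (hsq : ¬ p ^ 2 ∣ Nat.card G)
    (hnn : ∀ H : Subgroup G, H.Normal → Nat.card H ≠ p) (χ : G → ℂ) (hχ : IsCharacter G χ)
    (hfaith : ∀ g : G, χ g = χ 1 → g = 1) (hdeg : 2 * charDegree χ + 1 = p) (hp5 : 5 ≤ p) :
    Nonempty ((G ⧸ Subgroup.center G) ≃*
      Matrix.ProjectiveSpecialLinearGroup (Fin 2) (ZMod p)) := by
  obtain ⟨kk, _, _, ρk, hx1, -⟩ := exists_reduction hx hsq hnn χ hχ hfaith
  obtain ⟨ψ, hiso, hψx, hψV⟩ := exists_three_dim (k := kk) ρk hx hsq
    (by rw [Module.finrank_fin_fun]; omega) hx1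
  exact psl_core hx hsq hnn χ hχ hfaith (by omega) hp5
    (isIrr_res_normalClosure hx hsq hnn χ hχ hfaith hdeg) ψ hiso hψx hψV

end CfsgLib.HalfPSL
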