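import Cfsg.Agent.Lib.HalfPSL.ThreeDim
import Cfsg.Agent.Lib.PSL2.TwoTransvections
import Cfsg.Agent.Lib.SpecLin.SLTwoClassSize
import Mathlib.FieldTheory.IntermediateField.Adjoin.Basic

/-!
# The adjoint representation of `SL₂` and the finite groups generated by two unipotents

A finite subgroup of `SL₂(k)`, `char k = p ≥ 5`, of order not divisible by `p²` which contains
`!![1, 0; 1, 1]` and `!![1, λ; 0, 1]`, `λ ≠ 0`, has `λ` in the prime field and contains `SL₂(p)`.
-/

set_option autoImplicit false
set_option linter.unusedSectionVars false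
set_option linter.style.haveILetI false
set_option linter.unnecessarySeqFocus false

noncomputable section

namespace CfsgLib.HalfPSL

open Matrix

variable {k : Type*} [Field k]

local notation "SL2" => Matrix.SpecialLinearGroup (Fin 2) k
local notation "M2" => Matrix (Fin 2) (Fin 2) k
local notation "M3" => Matrix (Fin 3) (Fin 3) k

/-- The adjoint representation, in the basis `E, H, F` of `sl₂`. -/
def adM (s : M2) : M3 :=
  !![s 0 0 ^ 2, -2 * (s 0 0 * s 0 1), -(s 0 1 ^ 2);
     -(s 0 0 * s 1 0), s 0 0 * s 1 1 + s 0 1 * s 1 0, s 0 1 * s 1 1;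
     -(s 1 0 ^ 2), 2 * (s 1 0 * s 1 1), s 1 1 ^ 2]

theorem adM_mul (s t : M2) : adM (s * t) = adM s * adM t := by
  ext i j
  fin_cases i <;> fin_cases j <;>
    simp [adM, Matrix.mul_apply, Fin.sum_univ_three, Fin.sum_univ_two] <;> ring

theorem adM_one : adM (1 : M2) = 1 := by
  ext i j
  fin_cases i <;> fin_cases j <;> simp [adM]

theorem adM_gram (s : M2) : (adM s)ᵀ * gram * adM s = s.det ^ 2 • gram := by
  ext i j
  fin_cases i <;> fin_cases j <;>
    simp [adM, gram, Matrix.mul_apply, Fin.sum_univ_three, Matrix.det_fin_two] <;> ring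

theorem adM_eq_one {s : M2} (hdet : s.det = 1) (h : adM s = 1) : s = 1 ∨ s = -1 := by
  have e00 := congrFun (congrFun h 0) 0
  have e02 := congrFun (congrFun h 0) 2
  have e20 := congrFun (congrFun h 2) 0
  simp [adM] at e00 e02 e20
  rw [Matrix.det_fin_two, e02, e20, mul_zero, sub_zero] at hdet
  rcases e00 with h0 | h0
  · left; ext i j; fin_cases i <;> fin_cases j <;> simp_all
  · right
    rw [h0, neg_one_mul, neg_eq_iff_eq_neg] at hdet
    ext i j; fin_cases i <;> fin_cases j <;> simp_all

/-- The adjoint representation as a homomorphism. -/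
def adHom : SL2 →* M3 where
  toFun s := adM (s : M2)
  map_one' := by simp [adM_one]
  map_mul' s t := by simp [adM_mul]

theorem adHom_apply (s : SL2) : adHom s = adM (s : M2) := rfl

/-- The upper unitriangular matrices. -/
def upperU (γ : k) : SL2 := ⟨!![1, γ; 0, 1], by simp [Matrix.det_fin_two]⟩

theorem upperU_coe (γ : k) : (upperU γ : M2) = !![1, γ; 0, 1] := rfl

theorem upperU_mul (a b : k) : upperU a * upperU b = upperU (a + b) := by
  apply Subtype.ext
  ext i j
  fin_cases i <;> fin_cases j <;> simp [upperU_coe, Matrix.mul_apply, Fin.sum_univ_two, add_comm]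

theorem upperU_zero : upperU (0 : k) = 1 := by
  apply Subtype.ext
  ext i j
  fin_cases i <;> fin_cases j <;> simp [upperU_coe]

theorem upperU_pow (γ : k) (n : ℕ) : upperU γ ^ n = upperU ((n : k) * γ) := by
  induction n with
  | zero => simp [upperU_zero]
  | succ n ih => rw [pow_succ, ih, upperU_mul, Nat.cast_succ, add_mul, one_mul]

theorem upperU_inv (γ : k) : (upperU γ)⁻¹ = upperU (-γ) :=
  inv_eq_of_mul_eq_one_right (by rw [upperU_mul, add_neg_cancel, upperU_zero])

theorem adHom_upperU_one : adHom (upperU (1 : k)) = regUnip := by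
  ext i j
  fin_cases i <;> fin_cases j <;> simp [adHom_apply, adM, upperU_coe, regUnip]

/-- An isometry fixing `E` and unipotent is upper unitriangular. -/
theorem exists_upperU (h2 : (2 : k) ≠ 0) {g : M3} (hg : gᵀ * gram * g = gram)
    (hfix : ∀ i, g i 0 = (1 : M3) i 0) (hnil : (g - 1) ^ 3 = 0) : ∃ γ, g = adHom (upperU γ) := by
  have e00 : g 0 0 = 1 := by simpa using hfix 0
  have e10 : g 1 0 = 0 := by simpa using hfix 1
  have e20 : g 2 0 = 0 := by simpa using hfix 2
  have h01 := congrFun (congrFun hg 0) 1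
  have h02 := congrFun (congrFun hg 0) 2
  have h12 := congrFun (congrFun hg 1) 2
  have h22 := congrFun (congrFun hg 2) 2
  simp [gram, Matrix.mul_apply, Fin.sum_univ_three, e00, e10, e20] at h01 h02 h12 h22
  rw [h01, h02] at h12
  rw [h02] at h22
  have h11 : g 1 1 = 1 := by
    have h := congrFun (congrFun hnil 1) 1
    simp [pow_succ, Matrix.mul_apply, Fin.sum_univ_three, e10, e20, h01, Matrix.one_apply,
      sub_eq_zero] at h
    exact h
  refine ⟨g 1 2, ?_⟩
  ext i j
  fin_cases i <;> fin_cases j <;>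
    simp [adHom_apply, adM, upperU_coe, e00, e10, e20, h01, h02, h11]
  · rw [h11] at h12
    linear_combination h12
  · have h' : (2 : k) * (g 0 2 + g 1 2 ^ 2) = 0 := by linear_combination h22
    exact eq_neg_of_add_eq_zero_left ((mul_eq_zero.1 h').resolve_left h2)

/-- An isotropic vector is, up to a factor, the image of `E`. -/
theorem exists_move {n : Fin 3 → k} (h2 : (2 : k) ≠ 0) (hn : n ≠ 0)
    (hiso : n ⬝ᵥ (gram *ᵥ n) = 0) :
    ∃ (S : SL2) (c : k), c ≠ 0 ∧ ∀ i, adHom S i 0 = c * n i := by
  have h : n 1 ^ 2 + n 0 * n 2 = 0 := by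
    simp [gram, dotProduct, Matrix.mulVec, Fin.sum_univ_three] at hiso
    have h' : (2 : k) * (n 1 ^ 2 + n 0 * n 2) = 0 := by linear_combination hiso
    exact (mul_eq_zero.1 h').resolve_left h2
  by_cases h0 : n 0 = 0
  · have h1 : n 1 = 0 := by
      rw [h0, zero_mul, add_zero] at h
      exact pow_eq_zero_iff two_ne_zero |>.1 h
    have h3 : n 2 ≠ 0 := fun h3 => hn (funext fun i => by fin_cases i <;> simp [h0, h1, h3])
    refine ⟨⟨!![0, -1; 1, 0], by simp [Matrix.det_fin_two]⟩, -(n 2)⁻¹, by simp [h3], fun i => ?_⟩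
    show adM _ i 0 = _
    fin_cases i <;> simp [adM, h0, h1, h3]
  · refine ⟨⟨!![1, 0; -(n 1 / n 0), 1], by simp [Matrix.det_fin_two]⟩, (n 0)⁻¹, inv_ne_zero h0,
      fun i => ?_⟩
    show adM _ i 0 = _
    fin_cases i <;> simp [adM, h0]
    · ring
    · field_simp
      linear_combination -h

section Conj

/-- Conjugation by an invertible matrix. -/
def conjSL (M N : M2) (h : M * N = 1) : SL2 →* SL2 where
  toFun s := ⟨M * (s : M2) * N, by
    rw [Matrix.det_mul, Matrix.det_mul, s.2, mul_one, ← Matrix.det_mul, h, Matrix.det_one]⟩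
  map_one' := Subtype.ext (by simp [h])
  map_mul' s t := Subtype.ext (by
    show M * (↑(s * t) : M2) * N = M * (s : M2) * N * (M * (t : M2) * N)
    rw [Matrix.SpecialLinearGroup.coe_mul]
    simp only [mul_assoc]
    rw [← mul_assoc N M, mul_eq_one_comm.1 h, one_mul])

theorem conjSL_coe (M N : M2) (h : M * N = 1) (s : SL2) :
    ((conjSL M N h s : SL2) : M2) = M * (s : M2) * N := rfl

theorem conjSL_injective (M N : M2) (h : M * N = 1) : Function.Injective (conjSL M N h) := by
  intro s t hst
  apply Subtype.ext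
  have h1 := congrArg (fun u : SL2 => N * (u : M2) * M) hst
  have h' := mul_eq_one_comm.1 h
  simp only [conjSL_coe, mul_assoc, h', mul_one] at h1
  rwa [← mul_assoc N M, h', one_mul, ← mul_assoc N M, h', one_mul] at h1

end Conj

section Finite

variable {p : ℕ} [hp : Fact p.Prime] [CharP k p]

/-- The inclusion of the prime field. -/
def primeCast (k : Type*) [Field k] (p : ℕ) [CharP k p] : ZMod p →+* k :=
  ZMod.castHom (dvd_refl p) k

open Polynomial in
/-- The recursion of the powers of an element of trace `a`. -/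
def traceSeq (a : Polynomial k) : ℕ → Polynomial k
  | 0 => 0
  | 1 => 1
  | n + 2 => a * traceSeq a (n + 1) - traceSeq a n

/-- The trace of an element of finite order is algebraic over the prime field. -/
theorem isIntegral_of_finOrder {T : SL2} (h10 : (T : M2) 1 0 = 1) {n : ℕ} (hn : 0 < n)
    (hT : T ^ n = 1) :
    letI := ZMod.algebra k p
    IsIntegral (ZMod p) ((T : M2).trace) := by
  letI := ZMod.algebra k p
  classical
  let a : ℕ → Polynomial (ZMod p) := fun i => traceSeq Polynomial.X i
  have ha2 : ∀ i, a (i + 2) = Polynomial.X * a (i + 1) - a i := fun i => rfl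
  have hmonic : ∀ i, (a (i + 1)).Monic ∧ (a (i + 1)).natDegree = i ∧ (a i).degree < (i : WithBot ℕ) := by
    intro i
    induction i with
    | zero => exact ⟨Polynomial.monic_one, Polynomial.natDegree_one, by simp [a, traceSeq]⟩
    | succ i ih =>
      obtain ⟨h1, h2, h3⟩ := ih
      have hdeg : (Polynomial.X * a (i + 1)).degree = ((i + 1 : ℕ) : WithBot ℕ) := by
        rw [Polynomial.degree_mul, Polynomial.degree_X, Polynomial.degree_eq_natDegree h1.ne_zero, h2]
        push_cast
        rw [add_comm]
      have hlt : (a i).degree < (Polynomial.X * a (i + 1)).degree := by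
        rw [hdeg]
        exact h3.trans (by exact_mod_cast Nat.lt_succ_self i)
      have hd : (a (i + 2)).degree = ((i + 1 : ℕ) : WithBot ℕ) := by
        rw [ha2, Polynomial.degree_sub_eq_left_of_degree_lt hlt, hdeg]
      refine ⟨?_, Polynomial.natDegree_eq_of_degree_eq_some hd, ?_⟩
      · rw [show i + 1 + 1 = i + 2 from rfl, ha2]
        exact (Polynomial.monic_X.mul h1).sub_of_left hlt
      · rw [Polynomial.degree_eq_natDegree h1.ne_zero, h2]
        exact_mod_cast Nat.lt_succ_self i
  set t := (T : M2).trace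
  have hCH : (T : M2) * (T : M2) = t • (T : M2) - 1 := CfsgLib.SpecLin.SLTwo.sq_eq _ T.2
  have hpow : ∀ i, (T : M2) ^ (i + 1) =
      Polynomial.aeval t (a (i + 1)) • (T : M2) - Polynomial.aeval t (a i) • 1 := by
    intro i
    induction i with
    | zero => simp [a, traceSeq]
    | succ i ih =>
      rw [pow_succ, ih, sub_mul, smul_mul_assoc, smul_mul_assoc, one_mul, hCH,
        show i + 1 + 1 = i + 2 from rfl, ha2, map_sub, map_mul, Polynomial.aeval_X]
      module
  obtain ⟨m, rfl⟩ : ∃ m, n = m + 1 := ⟨n - 1, by omega⟩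
  refine ⟨a (m + 1), (hmonic m).1, ?_⟩
  have h := congrFun (congrFun (hpow m) 1) 0
  rw [← Matrix.SpecialLinearGroup.coe_pow, hT] at h
  simp [h10] at h
  rw [← Polynomial.aeval_def]
  exact h.symm

/-- A finite group containing the two unipotents contains `SL₂(p)`. -/
theorem contains_sl2 (hp5 : 5 ≤ p) {lam : k} (hlam : lam ≠ 0) (Γ : Subgroup SL2) [Finite Γ]
    (hsq : ¬ p ^ 2 ∣ Nat.card Γ) {X Y : SL2} (hX : (X : M2) = !![1, 0; 1, 1])
    (hY : (Y : M2) = !![1, lam; 0, 1]) (hXG : X ∈ Γ) (hYG : Y ∈ Γ) :
    lam ∈ (primeCast k p).range ∧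
      ∀ s, Matrix.SpecialLinearGroup.map (primeCast k p) s ∈ Γ := by
  classical
  letI := ZMod.algebra k p
  have hint : IsIntegral (ZMod p) lam := by
    set T := X * Y
    have hTc : (T : M2) = !![1, lam; 1, lam + 1] := by
      rw [Matrix.SpecialLinearGroup.coe_mul, hX, hY]
      ext i j; fin_cases i <;> fin_cases j <;> simp [Matrix.mul_apply, Fin.sum_univ_two]
    have h := isIntegral_of_finOrder (p := p) (k := k) (T := T) (by simp [hTc])
      (Nat.card_pos (α := Γ)) (by
        have := pow_card_eq_one' (G := Γ) (x := ⟨T, mul_mem hXG hYG⟩)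
        exact congrArg Subtype.val this)
    have ht : (T : M2).trace = lam + 2 := by
      simp [hTc, Matrix.trace_fin_two]; ring
    rw [ht] at h
    have h2 : IsIntegral (ZMod p) (2 : k) := by
      have h' : IsIntegral (ZMod p) (algebraMap (ZMod p) k 2) := isIntegral_algebraMap
      rwa [map_ofNat] at h'
    simpa using h.sub h2
  set F := IntermediateField.adjoin (ZMod p) ({lam} : Set k) with hF
  haveI : FiniteDimensional (ZMod p) F := IntermediateField.adjoin.finiteDimensional hint
  haveI : Finite F := Module.finite_of_finite (ZMod p)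
  letI := Fintype.ofFinite F
  let lam' : F := ⟨lam, IntermediateField.mem_adjoin_simple_self _ lam⟩
  have hgen : Subfield.closure ({lam'} : Set F) = ⊤ := by
    rw [eq_top_iff]
    rintro ⟨z, hz⟩ -
    induction hz using IntermediateField.adjoin_induction with
    | mem y hy =>
      obtain rfl : y = lam := hy
      exact Subfield.subset_closure rfl
    | algebraMap q =>
      have : (⟨algebraMap (ZMod p) k q, IntermediateField.algebraMap_mem _ q⟩ : F) =
          ((q.val : ℕ) : F) := by
        apply Subtype.ext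
        show algebraMap (ZMod p) k q = (((q.val : ℕ) : F) : k)
        rw [SubringClass.coe_natCast]
        conv_lhs => rw [← ZMod.natCast_zmod_val q, map_natCast]
      rw [this]
      exact natCast_mem _ _
    | add a b ha hb h1 h2 => exact add_mem h1 h2
    | inv a ha h1 => exact inv_mem h1
    | mul a b ha hb h1 h2 => exact mul_mem h1 h2
  let ι : F →+* k := F.val.toRingHom
  haveI : CharP F p := (ι.charP_iff ι.injective p).2 inferInstance
  let μ := Matrix.SpecialLinearGroup.map (n := Fin 2) ι
  have hμ : Function.Injective μ := fun a b h => by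
    ext i j
    exact congrArg (fun s : SL2 => (s : M2) i j) h
  set H := Γ.comap μ
  have hHdvd : Nat.card H ∣ Nat.card Γ := by
    let f : H →* Γ := μ.subgroupComap Γ
    refine Subgroup.card_dvd_of_injective f fun a b h => Subtype.ext (hμ ?_)
    exact congrArg Subtype.val h
  let X' : Matrix.SpecialLinearGroup (Fin 2) F := ⟨!![1, 0; 1, 1], by simp [Matrix.det_fin_two]⟩
  let Y' : Matrix.SpecialLinearGroup (Fin 2) F := ⟨!![1, lam'; 0, 1], by simp [Matrix.det_fin_two]⟩
  have hX' : X' ∈ H := by
    show μ X' ∈ Γ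
    convert hXG using 1
    apply Subtype.ext
    rw [hX]
    ext i j
    show ι ((X' : Matrix (Fin 2) (Fin 2) F) i j) = _
    fin_cases i <;> fin_cases j <;> simp [X']
  have hY' : Y' ∈ H := by
    show μ Y' ∈ Γ
    convert hYG using 1
    apply Subtype.ext
    rw [hY]
    ext i j
    show ι ((Y' : Matrix (Fin 2) (Fin 2) F) i j) = _
    fin_cases i <;> fin_cases j <;> simp [Y', lam'] <;> rfl
  have hsmall : ∀ n : ℕ, 0 < n → n < p → (n : F) ≠ 0 := fun n h1 h2 h0 => by
    rw [CharP.cast_eq_zero_iff F p] at h0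
    have := Nat.le_of_dvd h1 h0
    omega
  have h2F : (2 : F) ≠ 0 := by exact_mod_cast hsmall 2 (by norm_num) (by omega)
  obtain ⟨m, -, hm⟩ := FiniteField.card F p
  rcases CfsgLib.PSL2.trichotomy (X := X') (Y := Y') (lam := lam') rfl rfl hX' hY' h2F
    (fun h => hlam (congrArg Subtype.val h)) hgen with htop | ⟨h9, -, -⟩
  swap
  · exfalso
    have h : p ∣ 9 := h9 ▸ hm ▸ dvd_pow_self p m.pos.ne'
    have : p ∣ 3 := by
      rw [show (9 : ℕ) = 3 ^ 2 by norm_num] at h
      exact hp.out.dvd_of_dvd_pow h
    have := Nat.le_of_dvd (by norm_num) this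
    omega
  have hm1 : (m : ℕ) = 1 := by
    by_contra hne
    have : 2 ≤ (m : ℕ) := by have := m.pos; omega
    refine hsq (Dvd.dvd.trans ?_ hHdvd)
    rw [htop, Subgroup.card_top, CfsgLib.SpecLin.SLTwo.card_sl_two, hm]
    exact Dvd.dvd.mul_right (pow_dvd_pow p this) _
  let c : ZMod p →+* F := ZMod.castHom (dvd_refl p) F
  have hcs : Function.Surjective c := by
    refine ((Fintype.bijective_iff_injective_and_card c).2 ⟨c.injective, ?_⟩).2
    rw [ZMod.card, hm, hm1, pow_one]
  have hcomp : ι.comp c = primeCast k p := Subsingleton.elim _ _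
  refine ⟨?_, fun s => ?_⟩
  · obtain ⟨q, hq⟩ := hcs lam'
    exact ⟨q, by rw [← hcomp, RingHom.comp_apply, hq]; rfl⟩
  · have h : Matrix.SpecialLinearGroup.map c s ∈ H := by rw [htop]; trivial
    have e : μ (Matrix.SpecialLinearGroup.map c s) =
        Matrix.SpecialLinearGroup.map (primeCast k p) s := by
      ext i j
      rw [← hcomp]
      rfl
    exact e ▸ h

end Finite

end CfsgLib.HalfPSL
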