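import Cfsg.Agent.Lib.PrimeDefect.SmallNormal
import Cfsg.Agent.Lib.Characters.NormalRes
import Cfsg.Agent.Lib.Blocks.CyclicAverage
import Cfsg.Agent.Lib.Blk7.SmallTensor

/-!
# Elementary facts about a small faithful character and a Sylow subgroup of prime order
-/

set_option autoImplicit false
set_option linter.unusedSectionVars false
set_option linter.style.haveILetI false

noncomputable section

namespace CfsgLib.HalfPSL

open Cfsg CfsgLib.Characters

universe u

variable {G : Type u} [Group G] [Finite G] {p : ℕ} [hp : Fact p.Prime]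

/-- A normal subgroup of order divisible by `p` contains every element of order `p`. -/
theorem mem_of_dvd_normal (hsq : ¬ p ^ 2 ∣ Nat.card G) (N : Subgroup G) [N.Normal]
    (hN : p ∣ Nat.card N) {y : G} (hy : y ^ p = 1) : y ∈ N := by
  rw [← QuotientGroup.eq_one_iff, ← orderOf_eq_one_iff]
  have h1 : orderOf (y : G ⧸ N) ∣ p :=
    orderOf_dvd_of_pow_eq_one (by rw [← QuotientGroup.mk_pow, hy, QuotientGroup.mk_one])
  rcases (Nat.dvd_prime hp.out).1 h1 with h | h
  · exact h
  exfalso
  refine hsq ?_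
  rw [← N.card_mul_index, pow_two]
  exact mul_dvd_mul hN (h ▸ orderOf_dvd_natCard (y : G ⧸ N))

/-- A normal subgroup missing an element of order `p` has order prime to `p`. -/
theorem not_dvd_of_notMem (hsq : ¬ p ^ 2 ∣ Nat.card G) (N : Subgroup G) [N.Normal] {y : G}
    (hy : y ^ p = 1) (hyN : y ∉ N) : ¬ p ∣ Nat.card N :=
  fun h => hyN (mem_of_dvd_normal hsq N h hy)

/-- Two elements of order `p` commute if their commutator lies in a normal `p'`-subgroup and a
faithful character has degree less than `p - 1`. -/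
theorem commute_of_commutator_mem (hsq : ¬ p ^ 2 ∣ Nat.card G) (χ : G → ℂ) (hχ : IsCharacter G χ)
    (hfaith : ∀ g : G, χ g = χ 1 → g = 1) (hd : charDegree χ + 1 < p) (R : Subgroup G) [R.Normal]
    (hR : ¬ p ∣ Nat.card R) {a b : G} (hb : orderOf b = p)
    (hc : a * b * a⁻¹ * b⁻¹ ∈ R) : Commute a b := by
  set c := a * b * a⁻¹ * b⁻¹ with hcdef
  have h2 := PrimeDefect.commute_of_small hb hsq χ hχ hfaith hd R hR hc
  have e : a * b * a⁻¹ = c * b := by rw [hcdef]; group
  have hcp : c ^ p = 1 := by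
    have h3 : (c * b) ^ p = 1 := by
      rw [← e, conj_pow, ← hb, pow_orderOf_eq_one, mul_one, mul_inv_cancel]
    rwa [h2.mul_pow, ← hb, pow_orderOf_eq_one, mul_one, hb] at h3
  have hc1 : c = 1 := by
    rcases (Nat.dvd_prime hp.out).1 (orderOf_dvd_of_pow_eq_one hcp) with h | h
    · exact orderOf_eq_one_iff.1 h
    · exact absurd (h ▸ Subgroup.orderOf_dvd_natCard R hc) hR
  rw [hcdef, mul_inv_eq_one, mul_inv_eq_iff_eq_mul] at hc1
  exact hc1

/-- An element of order `p` all of whose conjugates commute with it generates a normal subgroup of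
order `p`. -/
theorem exists_normal_of_commute {x : G} (hx : orderOf x = p) (hsq : ¬ p ^ 2 ∣ Nat.card G)
    (hall : ∀ g, Commute (g * x * g⁻¹) x) :
    ∃ H : Subgroup G, H.Normal ∧ Nat.card H = p := by
  refine ⟨Subgroup.normalClosure ({x} : Set G), inferInstance, ?_⟩
  set K := Subgroup.normalClosure ({x} : Set G)
  have hgen : ∀ z ∈ Group.conjugatesOfSet ({x} : Set G), ∃ g, z = g * x * g⁻¹ := by
    intro z hz
    obtain ⟨a, ha, haz⟩ := Group.mem_conjugatesOfSet_iff.1 hz
    rw [Set.mem_singleton_iff.1 ha] at haz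
    obtain ⟨g, hg⟩ := isConj_iff.1 haz
    exact ⟨g, hg.symm⟩
  have hcc : ∀ g h : G, Commute (g * x * g⁻¹) (h * x * h⁻¹) := by
    intro g h
    have h1 := (hall (h⁻¹ * g)).map (MulAut.conj h).toMonoidHom
    simp only [MulEquiv.coe_toMonoidHom, MulAut.conj_apply] at h1
    rwa [show h * (h⁻¹ * g * x * (h⁻¹ * g)⁻¹) * h⁻¹ = g * x * g⁻¹ by group] at h1
  have hcomm : ∀ a ∈ K, ∀ b ∈ K, Commute a b := by
    intro a ha b hb
    refine Subgroup.closure_induction₂ (p := fun a b _ _ => Commute a b)
      (fun u v hu hv => ?_) (fun u _ => Commute.one_left u) (fun u _ => Commute.one_right u)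
      (fun u v w _ _ _ h1 h2 => h1.mul_left h2) (fun u v w _ _ _ h1 h2 => h1.mul_right h2)
      (fun u v _ _ h => h.inv_left) (fun u v _ _ h => h.inv_right) ha hb
    obtain ⟨g, rfl⟩ := hgen u hu
    obtain ⟨h, rfl⟩ := hgen v hv
    exact hcc g h
  have hpow : ∀ a ∈ K, a ^ p = 1 := by
    intro a ha
    induction ha using Subgroup.closure_induction with
    | mem z hz =>
      obtain ⟨g, rfl⟩ := hgen z hz
      rw [conj_pow, ← hx, pow_orderOf_eq_one, mul_one, mul_inv_cancel]
    | one => exact one_pow p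
    | mul a b ha hb iha ihb => rw [(hcomm a ha b hb).mul_pow, iha, ihb, one_mul]
    | inv a _ iha => rw [inv_pow, iha, inv_one]
  have hpg : IsPGroup p K := fun z => ⟨1, Subtype.ext (by rw [pow_one]; exact hpow z z.2)⟩
  obtain ⟨n, hn⟩ := IsPGroup.iff_card.1 hpg
  have hxK : x ∈ K := Subgroup.subset_normalClosure rfl
  have hn1 : n = 1 := by
    have h1 : p ∣ p ^ n := hn ▸ hx ▸ Subgroup.orderOf_dvd_natCard K hxK
    have h2 : n ≠ 0 := by
      rintro rfl
      exact hp.out.ne_one (Nat.dvd_one.1 (by simpa using h1))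
    by_contra h3
    exact hsq ((pow_dvd_pow p (by omega : 2 ≤ n)).trans (hn ▸ Subgroup.card_subgroup_dvd_card K))
  rw [hn, hn1, pow_one]

/-- A character constant on the non-trivial powers of `x` has `x` in its kernel, if its degree is
less than `p / 2`. -/
theorem apply_eq_one_of_rational {x : G} (hx : orderOf x = p) (χ : G → ℂ) (hχ : IsCharacter G χ)
    (hd : charDegree χ + 1 < p) (hconst : ∀ i : ℕ, i % p ≠ 0 → χ (x ^ i) = χ x) :
    χ x = χ 1 := by
  classical
  haveI := Fintype.ofFinite (Subgroup.zpowers x)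
  have hres := NormalRes.isCharacter_res (Subgroup.zpowers x) hχ
  obtain ⟨m, hm⟩ := classInner_char_nat hres
    (irr_isCharacter (principalIrr (Subgroup.zpowers x)))
  have hfin : IsOfFinOrder x := isOfFinOrder_of_finite x
  have hsum : ∑ c : Subgroup.zpowers x, χ (c : G) = χ 1 + ((p : ℂ) - 1) * χ x := by
    rw [← (finEquivZPowers hfin).sum_comp (fun c : Subgroup.zpowers x => χ (c : G))]
    have h1 : ∀ i : Fin (orderOf x), χ ((finEquivZPowers hfin i : Subgroup.zpowers x) : G) =
        χ x + if i.val = 0 then χ 1 - χ x else 0 := by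
      intro i
      rw [finEquivZPowers_apply]
      by_cases hi : i.val = 0
      · simp [hi]
      · rw [hconst _ (by rw [Nat.mod_eq_of_lt (by omega)]; exact hi), if_neg hi, add_zero]
    rw [Finset.sum_congr rfl fun i _ => h1 i, Finset.sum_add_distrib, Finset.sum_const,
      Finset.card_univ, Fintype.card_fin, nsmul_eq_mul,
      Finset.sum_eq_single (⟨0, by rw [hx]; exact hp.out.pos⟩ : Fin (orderOf x))]
    · rw [if_pos rfl, hx]; ring
    · intro i _ hi
      exact if_neg fun h => hi (Fin.ext h)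
    · simp
  have hm' : χ 1 + ((p : ℂ) - 1) * χ x = (p : ℂ) * m := by
    rw [← hm, ← hsum, classInner, Nat.card_zpowers, hx, ← mul_assoc,
      mul_inv_cancel₀ (Nat.cast_ne_zero.2 hp.out.ne_zero), one_mul]
    refine Finset.sum_congr rfl fun c _ => ?_
    simp [principalIrr]
  have hd' : χ 1 = (charDegree χ : ℂ) := (Chars17.cast_charDegree hχ).symm
  set d := charDegree χ
  obtain ⟨c, hc⟩ : ∃ c : ℤ, χ x = c := by
    have hint : IsIntegral ℤ (χ x) := CfsgLib.CyclicDefectBound.isIntegral_char hχ x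
    have hp1 : ((p : ℚ) - 1) ≠ 0 := by
      have : (1 : ℚ) < p := by exact_mod_cast hp.out.one_lt
      linarith
    have hq : χ x = algebraMap ℚ ℂ (((p : ℚ) * m - d) / ((p : ℚ) - 1)) := by
      rw [map_div₀, map_sub, map_sub, map_mul, map_natCast, map_natCast, map_natCast, map_one,
        eq_div_iff (by exact_mod_cast hp1)]
      linear_combination hm' - hd'
    rw [hq, isIntegral_algebraMap_iff (algebraMap ℚ ℂ).injective] at hint
    obtain ⟨c, hc⟩ := IsIntegrallyClosed.isIntegral_iff.1 hint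
    exact ⟨c, by rw [hq, ← hc]; simp⟩
  have key : (d : ℤ) + ((p : ℤ) - 1) * c = (p : ℤ) * m := by
    rw [hd', hc] at hm'
    exact_mod_cast hm'
  have habs : |c| ≤ (d : ℤ) := by
    obtain ⟨n, ρ, hρ⟩ := hχ
    have h1 := norm_char_le ρ x
    rw [hρ, hc, Complex.norm_intCast] at h1
    have h2 : (n : ℂ) = (d : ℂ) := by
      rw [← hd', ← hρ, Representation.char_one]
      simp
    have h3 : n = d := by exact_mod_cast h2
    rw [Module.finrank_fin_fun, h3] at h1
    exact_mod_cast h1
  rw [hc, hd']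
  have hcd : c = d := by
    by_contra hne
    have h1 : (d : ℤ) - c = (p : ℤ) * ((m : ℤ) - c) := by linear_combination key
    rw [abs_le] at habs
    have h2 : 0 < (d : ℤ) - c := lt_of_le_of_ne (by omega) (by omega)
    rw [h1] at h2
    have h3 : 1 ≤ (m : ℤ) - c := by
      by_contra h4
      push Not at h4
      nlinarith
    have hm0 : (0 : ℤ) ≤ m := Int.natCast_nonneg m
    have h5 : ((p : ℤ) - 1) * ((m : ℤ) - c) = (d : ℤ) - m := by linear_combination -h1
    have h6 : (p : ℤ) - 1 ≤ ((p : ℤ) - 1) * ((m : ℤ) - c) :=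
      le_mul_of_one_le_right (by omega) h3
    omega
  rw [hcd]
  norm_cast

/-- A matrix of finite order prime to `p` congruent to `1` is `1`. -/
theorem eq_one_of_map_eq_one {O : Type*} [CommRing O] [IsLocalRing O] {N : ℕ}
    {A : Matrix (Fin N) (Fin N) O} {q : ℕ} (hq : IsUnit (q : O)) (hA : A ^ q = 1)
    (h : A.map (IsLocalRing.residue O) = 1) : A = 1 := by
  classical
  have hS : IsUnit (∑ i ∈ Finset.range q, A ^ i) := by
    rw [Matrix.isUnit_iff_isUnit_det, ← IsLocalRing.residue_ne_zero_iff_isUnit, RingHom.map_det,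
      map_sum]
    simp only [map_pow, RingHom.mapMatrix_apply, h, one_pow, Finset.sum_const, Finset.card_range]
    rw [← Nat.cast_smul_eq_nsmul (IsLocalRing.ResidueField O), Matrix.det_smul, Matrix.det_one,
      mul_one]
    refine pow_ne_zero _ ?_
    rw [← map_natCast (IsLocalRing.residue O)]
    exact (IsLocalRing.residue_ne_zero_iff_isUnit _).2 hq
  have h1 := mul_geom_sum A q
  rw [hA, sub_self] at h1
  exact sub_eq_zero.1 (hS.mul_left_eq_zero.1 h1)

end CfsgLib.HalfPSL
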