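import Mathlib.Algebra.Polynomial.AlgebraMap
import Mathlib.Algebra.CharP.Lemmas
import Mathlib.Algebra.Ring.GeomSum
import Mathlib.Data.Nat.Choose.Sum
import Mathlib.RingTheory.Nilpotent.Basic
import Mathlib.Data.Nat.Prime.Factorial
import Mathlib.Tactic

/-!
# Truncated exponentials and logarithms of unipotent elements in characteristic `p`

For `A ^ p = 0` the truncated exponential is a bijection from `A k[A]` onto `1 + A k[A]` taking
sums to products, so a unit conjugating `1 + A` to `(1 + A) ^ r` multiplies its logarithm by `r`.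
-/

set_option autoImplicit false
set_option linter.unusedSectionVars false

noncomputable section

namespace CfsgLib.HalfPSL

open Polynomial

variable {k : Type*} [Field k] (p : ℕ) [hp : Fact p.Prime] [CharP k p]
variable {R : Type*} [Ring R] [Algebra k R]

/-- The inverse factorials. -/
def ic (i : ℕ) : k := ((i.factorial : k))⁻¹

/-- The truncated exponential. -/
def texp (s : R) : R := ∑ i ∈ Finset.range p, (ic i : k) • s ^ i

variable {p}

theorem factorial_ne_zero {i : ℕ} (h : i < p) : (i.factorial : k) ≠ 0 := by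
  intro h0
  rw [CharP.cast_eq_zero_iff k p, hp.out.dvd_factorial] at h0
  omega

theorem ic_mul_choose {i j : ℕ} (h : j + i < p) :
    (ic (j + i) : k) * ((j + i).choose i : k) = ic j * ic i := by
  have h1 : (((j + i).choose i * i.factorial * j.factorial : ℕ) : k) = ((j + i).factorial : k) := by
    congr 1
    have := Nat.choose_mul_factorial_mul_factorial (Nat.le_add_left i j)
    rwa [Nat.add_sub_cancel] at this
  have := factorial_ne_zero (k := k) (p := p) (show i < p by omega)
  have := factorial_ne_zero (k := k) (p := p) (show j < p by omega)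
  have := factorial_ne_zero (k := k) (p := p) h
  simp only [ic]
  push_cast at h1
  field_simp
  linear_combination h1

theorem texp_add {s t : R} (hc : Commute s t) (hz : ∀ i j, p ≤ i + j → s ^ i * t ^ j = 0) :
    texp (k := k) p (s + t) = texp (k := k) p s * texp (k := k) p t := by
  classical
  set f : ℕ × ℕ → R := fun q => ((ic q.1 : k) * ic q.2) • (s ^ q.1 * t ^ q.2) with hf
  have hl : texp (k := k) p (s + t) = ∑ n ∈ Finset.range p, ∑ q ∈ Finset.antidiagonal n, f q := by
    refine Finset.sum_congr rfl fun n hn => ?_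
    rw [hc.add_pow', Finset.smul_sum]
    refine Finset.sum_congr rfl fun q hq => ?_
    rw [Finset.HasAntidiagonal.mem_antidiagonal] at hq
    subst hq
    rw [← Nat.cast_smul_eq_nsmul k, smul_smul, Nat.choose_symm_add,
      ic_mul_choose (p := p) (Finset.mem_range.1 hn)]
  have hr : texp (k := k) p s * texp (k := k) p t = ∑ q ∈ Finset.range p ×ˢ Finset.range p, f q := by
    rw [texp, texp, Finset.sum_mul_sum, Finset.sum_product]
    exact Finset.sum_congr rfl fun i _ => Finset.sum_congr rfl fun j _ => by
      rw [hf]; exact smul_mul_smul_comm _ _ _ _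
  rw [hl, hr, ← Finset.sum_biUnion]
  · refine Finset.sum_subset ?_ fun q hq hn => ?_
    · intro q hq
      simp only [Finset.mem_biUnion, Finset.mem_range, Finset.HasAntidiagonal.mem_antidiagonal] at hq
      obtain ⟨n, hn, hq⟩ := hq
      simp only [Finset.mem_product, Finset.mem_range]
      omega
    · simp only [Finset.mem_biUnion, Finset.mem_range, Finset.HasAntidiagonal.mem_antidiagonal] at hn
      push Not at hn
      rw [hf]
      simp only
      rw [hz _ _ (le_of_not_gt fun h => hn _ h rfl), smul_zero]
  · intro a _ b _ hab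
    exact Finset.disjoint_left.2 fun q ha hb => hab (by
      rw [Finset.HasAntidiagonal.mem_antidiagonal] at ha hb; omega)

theorem texp_zero : texp (k := k) p (0 : R) = 1 := by
  rw [texp, Finset.sum_eq_single 0]
  · simp [ic]
  · intro i _ hi
    rw [zero_pow hi, smul_zero]
  · intro h
    exact absurd (Finset.mem_range.2 hp.out.pos) h

/-- The exponential is `1 + s + s² (…)`. -/
theorem exists_texp_eq : ∃ Q : k[X], ∀ (R : Type _) [Ring R] [Algebra k R] (s : R),
    texp (k := k) p s = 1 + s + s ^ 2 * Polynomial.aeval s Q := by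
  refine ⟨∑ i ∈ Finset.range (p - 2), C (ic (i + 2) : k) * X ^ i, fun R _ _ s => ?_⟩
  have h2 := hp.out.two_le
  conv_lhs => rw [texp, show p = (p - 2) + 1 + 1 by omega, Finset.sum_range_succ',
    Finset.sum_range_succ']
  simp only [map_sum, map_mul, map_pow, Polynomial.aeval_C, Polynomial.aeval_X, Finset.mul_sum]
  rw [add_assoc, add_comm]
  congr 1
  · simp [ic, add_comm]
  · refine Finset.sum_congr rfl fun i _ => ?_
    rw [← Algebra.smul_def, mul_smul_comm, ← pow_add, add_comm 2 i]

theorem texp_aeval (A : R) (S : k[X]) :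
    Polynomial.aeval A (texp (k := k) p S) = texp (k := k) p (Polynomial.aeval A S) := by
  simp [texp]

section Log

variable {A : R} (hA : A ^ p = 0)

/-- The exponential of `A P(A)`. -/
local notation "Ev" => fun P : k[X] => texp (k := k) p (Polynomial.aeval A (X * P))

include hA

theorem texp_aeval_add (P Q : k[X]) :
    texp (k := k) p (Polynomial.aeval A (X * (P + Q))) =
      texp (k := k) p (Polynomial.aeval A (X * P)) * texp (k := k) p (Polynomial.aeval A (X * Q)) := by
  rw [mul_add, map_add]
  refine texp_add ((Commute.all (X * P) (X * Q)).map (Polynomial.aeval A)) fun i j hij => ?_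
  rw [← map_pow, ← map_pow, ← map_mul, show (X * P) ^ i * (X * Q) ^ j = X ^ (i + j) * (P ^ i * Q ^ j)
    by ring, map_mul, map_pow, Polynomial.aeval_X, pow_eq_zero_of_le hij hA, zero_mul]

theorem texp_aeval_nat (P : k[X]) (n : ℕ) :
    texp (k := k) p (Polynomial.aeval A (X * ((n : k[X]) * P))) =
      texp (k := k) p (Polynomial.aeval A (X * P)) ^ n := by
  induction n with
  | zero => simp [texp_zero]
  | succ n ih => rw [pow_succ, ← ih, ← texp_aeval_add hA, Nat.cast_succ, add_mul, one_mul]

theorem exists_log : ∃ P : k[X], texp (k := k) p (Polynomial.aeval A (X * P)) = 1 + A := by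
  obtain ⟨Q₀, hQ₀⟩ := exists_texp_eq (k := k) (p := p)
  suffices h : ∀ j : ℕ, ∃ P Q : k[X], texp (k := k) p (Polynomial.aeval A (X * P)) =
      Polynomial.aeval A (1 + X - X ^ (j + 1) * Q) by
    obtain ⟨P, Q, h⟩ := h (p - 1)
    refine ⟨P, ?_⟩
    rw [h, Nat.sub_add_cancel hp.out.one_le]
    simp [hA]
  intro j
  induction j with
  | zero => exact ⟨0, 1, by simp [texp_zero]⟩
  | succ j ih =>
    obtain ⟨P, Q, h⟩ := ih
    set δ : k[X] := X ^ (j + 1) * Q with hδ
    set R' : k[X] := Q₀.comp δ
    refine ⟨P + X ^ j * Q, -(Q + X ^ j * Q ^ 2 * ((1 + X - δ) * R' - 1)), ?_⟩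
    rw [texp_aeval_add hA, h, show X * (X ^ j * Q) = δ by rw [hδ]; ring, hQ₀,
      ← Polynomial.aeval_comp, ← map_pow, ← map_mul, ← map_one (Polynomial.aeval (R := k) A),
      ← map_add, ← map_add, ← map_mul]
    congr 1
    simp only [R', hδ]
    ring

theorem texp_aeval_injective {P Q : k[X]}
    (h : texp (k := k) p (Polynomial.aeval A (X * P)) = texp (k := k) p (Polynomial.aeval A (X * Q))) :
    Polynomial.aeval A (X * P) = Polynomial.aeval A (X * Q) := by
  obtain ⟨Q₀, hQ₀⟩ := exists_texp_eq (k := k) (p := p)
  have hinv : texp (k := k) p (Polynomial.aeval A (X * Q)) *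
      texp (k := k) p (Polynomial.aeval A (X * (-Q))) = 1 := by
    rw [← texp_aeval_add hA, add_neg_cancel, mul_zero, map_zero, texp_zero]
  have h1 : texp (k := k) p (Polynomial.aeval A (X * (P - Q))) = 1 := by
    rw [sub_eq_add_neg, texp_aeval_add hA, h, hinv]
  rw [hQ₀] at h1
  set S := X * (P - Q)
  have h2 : Polynomial.aeval A S * Polynomial.aeval A (1 + S * Q₀.comp S) = 0 := by
    rw [← map_mul, mul_add, mul_one, map_add]
    rw [add_assoc, add_eq_left, ← Polynomial.aeval_comp, ← map_pow, ← map_mul] at h1
    rw [← mul_assoc, ← sq, h1]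
  have hu : IsUnit (Polynomial.aeval A (1 + S * Q₀.comp S)) := by
    rw [map_add, map_one]
    refine IsNilpotent.isUnit_one_add ⟨p, ?_⟩
    rw [← map_pow, mul_pow, show S ^ p = X ^ p * (P - Q) ^ p from mul_pow _ _ _]
    simp [hA]
  have h3 := (hu.mul_left_eq_zero).1 h2
  rwa [show S = X * P - X * Q from mul_sub _ _ _, map_sub, sub_eq_zero] at h3

/-- A unit conjugating `1 + A` to its `r`-th power multiplies the logarithm by `r`. -/
theorem conj_log {P : k[X]} (hP : texp (k := k) p (Polynomial.aeval A (X * P)) = 1 + A)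
    (u v : R) (hvu : v * u = 1) (huv : u * v = 1) (r : ℕ) (hr : u * (1 + A) * v = (1 + A) ^ r) :
    u * Polynomial.aeval A (X * P) * v = (r : k) • Polynomial.aeval A (X * P) := by
  let w : Rˣ := ⟨u, v, huv, hvu⟩
  let c : R →ₐ[k] R :=
    { toFun := fun f => u * f * v
      map_one' := by simp [huv]
      map_mul' := fun a b => by
        simp only [mul_assoc, ← mul_assoc v u, hvu, one_mul]
      map_zero' := by simp
      map_add' := fun a b => by simp [mul_add, add_mul]
      commutes' := fun z => by
        rw [← Algebra.commutes, mul_assoc, huv, mul_one] }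
  have hcA : c A = Polynomial.aeval A (X * ∑ i ∈ Finset.range r, (1 + X : k[X]) ^ i) := by
    have h1 : (X : k[X]) * ∑ i ∈ Finset.range r, (1 + X) ^ i = (1 + X) ^ r - 1 := by
      rw [← geom_sum_mul, add_sub_cancel_left, mul_comm]
    rw [h1, map_sub, map_pow, map_add, map_one, Polynomial.aeval_X, ← hr]
    show u * A * v = u * (1 + A) * v - 1
    rw [mul_add, mul_one, add_mul, huv, add_sub_cancel_left]
  set G' := ∑ i ∈ Finset.range r, (1 + X : k[X]) ^ i
  have hcl : c (Polynomial.aeval A (X * P)) = Polynomial.aeval A (X * (G' * P.comp (X * G'))) := by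
    rw [← Polynomial.aeval_algHom_apply, hcA, ← Polynomial.aeval_comp]
    congr 1
    rw [mul_comp, X_comp]
    ring
  show c (Polynomial.aeval A (X * P)) = _
  rw [hcl]
  have h2 : texp (k := k) p (Polynomial.aeval A (X * (G' * P.comp (X * G')))) =
      texp (k := k) p (Polynomial.aeval A (X * ((r : k[X]) * P))) := by
    rw [texp_aeval_nat hA, hP, ← hr, ← hcl]
    show _ = c (1 + A)
    rw [← hP]
    simp [texp]
  rw [texp_aeval_injective hA h2, show X * ((r : k[X]) * P) = (r : k[X]) * (X * P) by ring, map_mul,
    map_natCast, Algebra.smul_def, map_natCast]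

end Log

section Act

/-- Three steps of `ad L` are read off from the exponential. -/
theorem texp_mul {L u v w : R} (hL : L ^ (p - 2) = 0) (h2 : (2 : k) ≠ 0)
    (h1 : L * u = u * L + v) (hv : L * v = v * L + w) (hw : L * w = w * L) :
    texp (k := k) p L * u = (u + v + (2 : k)⁻¹ • w) * texp (k := k) p L := by
  have hpow : ∀ i : ℕ, L ^ i * u =
      u * L ^ i + i • (v * L ^ (i - 1)) + i.choose 2 • (w * L ^ (i - 2)) := by
    intro i
    induction i with
    | zero => simp
    | succ i ih =>
      rw [pow_succ', mul_assoc, ih, mul_add, mul_add, ← mul_assoc L u, h1, mul_smul_comm,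
        ← mul_assoc L v, hv, mul_smul_comm, ← mul_assoc L w, hw, add_mul, add_mul,
        mul_assoc u, ← pow_succ', mul_assoc v, ← pow_succ', mul_assoc w L, ← pow_succ']
      rcases i with _ | _ | i
      · simp
      · simp [two_nsmul, two_mul]
        abel
      · have hch : (i + 1 + 1 + 1).choose 2 = (i + 1 + 1).choose 2 + (i + 2) := by
          rw [Nat.choose_succ_succ' (i + 2) 1, Nat.choose_one_right]; ring
        simp only [Nat.add_sub_cancel, smul_add, hch, show i + 1 + 1 - 1 + 1 = i + 1 + 1 by omega,
          show i + 1 + 1 + 1 - 2 = i + 1 by omega, show i + 1 + 1 - 2 + 1 = i + 1 by omega,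
          show i + 1 + 1 - 1 = i + 1 by omega]
        module
  have hp2 := hp.out.two_le
  have hd1 : ∑ i ∈ Finset.range p, ((ic i : k) * (i : k)) • L ^ (i - 1) = texp (k := k) p L := by
    conv_lhs => rw [show p = (p - 1) + 1 by omega, Finset.sum_range_succ']
    rw [texp]
    conv_rhs => rw [show p = (p - 1) + 1 by omega, Finset.sum_range_succ,
      pow_eq_zero_of_le (by omega) hL, smul_zero, add_zero]
    simp only [Nat.cast_zero, mul_zero, zero_smul, add_zero, Nat.add_sub_cancel]
    refine Finset.sum_congr rfl fun i hi => ?_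
    congr 1
    have := ic_mul_choose (k := k) (p := p) (i := i) (j := 1)
      (by have := Finset.mem_range.1 hi; omega)
    rw [add_comm 1 i, Nat.choose_succ_self_right, show (ic 1 : k) = 1 by simp [ic], one_mul] at this
    exact this
  have hd2 : ∑ i ∈ Finset.range p, ((ic i : k) * (i.choose 2 : k)) • L ^ (i - 2) =
      (2 : k)⁻¹ • texp (k := k) p L := by
    conv_lhs => rw [show p = (p - 2) + 1 + 1 by omega, Finset.sum_range_succ',
      Finset.sum_range_succ']
    rw [texp]
    conv_rhs => rw [show p = (p - 2) + 1 + 1 by omega, Finset.sum_range_succ,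
      pow_eq_zero_of_le (by omega) hL, smul_zero, add_zero, Finset.sum_range_succ,
      hL, smul_zero, add_zero]
    simp only [Nat.choose_zero_succ, Nat.choose_one_right, zero_add,
      show Nat.choose 1 2 = 0 from rfl, Nat.cast_zero, mul_zero, zero_smul, add_zero, Finset.smul_sum,
      smul_smul]
    refine Finset.sum_congr rfl fun i hi => ?_
    rw [show i + 1 + 1 - 2 = i by omega]
    congr 1
    have := ic_mul_choose (k := k) (p := p) (i := 2) (j := i)
      (by have := Finset.mem_range.1 hi; omega)
    rw [show (ic 2 : k) = (2 : k)⁻¹ by simp [ic]] at this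
    rw [show i + 1 + 1 = i + 2 by ring, this, mul_comm]
  have hl : texp (k := k) p L * u = u * texp (k := k) p L +
      v * (∑ i ∈ Finset.range p, ((ic i : k) * (i : k)) • L ^ (i - 1)) +
      w * (∑ i ∈ Finset.range p, ((ic i : k) * (i.choose 2 : k)) • L ^ (i - 2)) := by
    simp only [texp, Finset.sum_mul, Finset.mul_sum, ← Finset.sum_add_distrib]
    refine Finset.sum_congr rfl fun i _ => ?_
    rw [smul_mul_assoc, hpow, smul_add, smul_add, ← Nat.cast_smul_eq_nsmul k i,
      ← Nat.cast_smul_eq_nsmul k (i.choose 2), smul_smul, smul_smul, mul_smul_comm, mul_smul_comm,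
      mul_smul_comm]
  rw [hl, hd1, hd2, add_mul, add_mul, mul_smul_comm, smul_mul_assoc]

end Act

end CfsgLib.HalfPSL
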