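import Cfsg.Agent.Lib.HalfPSL.Exp
import Cfsg.Agent.Lib.PrimeDefect.Orbit
import Mathlib.LinearAlgebra.Trace
import Mathlib.GroupTheory.SchurZassenhaus
import Mathlib.RepresentationTheory.Basic

/-!
# An `sl₂`-triple in the endomorphisms, covariant under the normaliser of `⟨x⟩`

`x` has order `p` and is a non-trivial unipotent with logarithm `L` of nilpotency index `l`.  A
complement of `⟨x⟩` in the normaliser splits off `φ` with `φ L ^ c φ = φ` for `c = l - 1` and `0`
otherwise, and the matrix units `L ^ i φ L ^ (l - 1 - j)` carry the triple.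
-/

set_option autoImplicit false
set_option linter.unusedSectionVars false
set_option linter.style.haveILetI false

noncomputable section

namespace CfsgLib.HalfPSL

open Polynomial

variable {k : Type*} [Field k] {V : Type*} [AddCommGroup V] [Module k V]

/-- The matrix units attached to `L` and `φ`. -/
def munit (L φ : Module.End k V) (l i j : ℕ) : Module.End k V :=
  if j < l then L ^ i * φ * L ^ (l - 1 - j) else 0

section Units

variable {L φ : Module.End k V} {l : ℕ} (hL : L ^ l = 0)
  (hφ : ∀ c, φ * L ^ c * φ = if c = l - 1 then φ else 0)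

include hL

theorem munit_left_zero {i j : ℕ} (hi : l ≤ i) : munit L φ l i j = 0 := by
  rw [munit]
  split_ifs
  · rw [pow_eq_zero_of_le hi hL, zero_mul, zero_mul]
  · rfl

theorem mul_munit (i j : ℕ) : L * munit L φ l i j = munit L φ l (i + 1) j := by
  rw [munit, munit]
  split_ifs
  · rw [← mul_assoc, ← mul_assoc, ← pow_succ']
  · rw [mul_zero]

theorem munit_succ_mul {i j : ℕ} (hj : j + 1 < l) :
    munit L φ l i (j + 1) * L = munit L φ l i j := by
  rw [munit, munit, if_pos hj, if_pos (by omega), mul_assoc, ← pow_succ,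
    show l - 1 - (j + 1) + 1 = l - 1 - j by omega]

theorem munit_zero_mul (i : ℕ) : munit L φ l i 0 * L = 0 := by
  rw [munit]
  split_ifs with h
  · rw [mul_assoc, ← pow_succ, show l - 1 - 0 + 1 = l by omega, hL, mul_zero]
  · rw [zero_mul]

include hφ

theorem munit_mul_munit (i j a b : ℕ) (hj : j < l) (ha : a < l) :
    munit L φ l i j * munit L φ l a b = if j = a then munit L φ l i b else 0 := by
  rcases Nat.lt_or_ge b l with hb | hb
  · simp only [munit, if_pos hj, if_pos hb]
    have h1 : L ^ i * φ * L ^ (l - 1 - j) * (L ^ a * φ * L ^ (l - 1 - b)) =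
        L ^ i * (φ * L ^ (l - 1 - j + a) * φ) * L ^ (l - 1 - b) := by
      simp only [pow_add, mul_assoc]
    rw [h1, hφ]
    by_cases h : j = a
    · rw [if_pos (by omega), if_pos h]
    · rw [if_neg (by omega), if_neg h, mul_zero, zero_mul]
  · rw [show munit L φ l a b = 0 from if_neg (by omega),
      show munit L φ l i b = 0 from if_neg (by omega), mul_zero, ite_self]

theorem trace_munit [FiniteDimensional k V] {i j : ℕ} (hi : i < l) (hj : j < l) :
    LinearMap.trace k V (munit L φ l i j) =
      if i = j then LinearMap.trace k V (φ * L ^ (l - 1)) else 0 := by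
  have h1 : ∀ c, LinearMap.trace k V (φ * L ^ c) =
      if c = l - 1 then LinearMap.trace k V (φ * L ^ (l - 1)) else 0 := by
    intro c
    have e : φ * L ^ c = φ * L ^ (l - 1) * (φ * L ^ c) := by
      rw [← mul_assoc, hφ, if_pos rfl]
    rw [e, LinearMap.trace_mul_comm, ← mul_assoc, hφ]
    split_ifs with h
    · rfl
    · simp
  rw [munit, if_pos hj, mul_assoc, LinearMap.trace_mul_comm, mul_assoc, ← pow_add, h1]
  by_cases h : i = j
  · rw [if_pos h, if_pos (by omega)]
  · rw [if_neg h, if_neg (by omega)]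

end Units

/-- The three operators. -/
structure Triple (k : Type*) [Field k] (V : Type*) [AddCommGroup V] [Module k V] where
  /-- The raising operator. -/
  e : Module.End k V
  /-- The semisimple operator. -/
  h : Module.End k V
  /-- The lowering operator. -/
  f : Module.End k V

namespace Triple

variable (T : Triple k V) (β : k)

/-- The trace pairings of an `sl₂`-triple. -/
structure HasForm [FiniteDimensional k V] : Prop where
  ne_zero : β ≠ 0
  ee : LinearMap.trace k V (T.e * T.e) = 0
  eh : LinearMap.trace k V (T.e * T.h) = 0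
  ef : LinearMap.trace k V (T.e * T.f) = β
  hh : LinearMap.trace k V (T.h * T.h) = 2 * β
  hf : LinearMap.trace k V (T.h * T.f) = 0
  ff : LinearMap.trace k V (T.f * T.f) = 0

end Triple

theorem sum_weights (a : k) (n : ℕ) :
    6 * ∑ i ∈ Finset.range n, ((i : k) + 1) * (a - 1 - i) =
      (n : k) * ((n : k) + 1) * (3 * a - 2 * (n : k) - 1) := by
  induction n with
  | zero => simp
  | succ n ih =>
    rw [Finset.sum_range_succ, mul_add, ih]
    push_cast
    ring

/-- The `sl₂`-triple of the matrix units. -/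
theorem exists_triple [FiniteDimensional k V] {L φ : Module.End k V} {l : ℕ} (hl : 2 ≤ l)
    (hL : L ^ l = 0) (hφ : ∀ c, φ * L ^ c * φ = if c = l - 1 then φ else 0)
    (hl1 : ((l : k) - 1) * l * ((l : k) + 1) ≠ 0) (hm : LinearMap.trace k V (φ * L ^ (l - 1)) ≠ 0) :
    ∃ (T : Triple k V) (β : k), T.HasForm β ∧
      (L * T.e = T.e * L ∧ L * T.h = T.h * L - (2 : k) • T.e ∧ L * T.f = T.f * L + T.h) ∧
      ∀ (c : Module.End k V →ₐ[k] Module.End k V) (r : k), r ≠ 0 → c L = r • L →
        c φ = (r ^ (l - 1))⁻¹ • φ → c T.e = r • T.e ∧ c T.h = T.h ∧ c T.f = r⁻¹ • T.f := by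
  set m := LinearMap.trace k V (φ * L ^ (l - 1)) with hmdef
  set R := Finset.range l
  set w : ℕ → k := fun i => 2 * (i : k) - ((l : k) - 1) with hw
  set g : ℕ → k := fun i => ((i : k) + 1) * ((l : k) - 1 - i) with hg
  set Te := ∑ i ∈ R, munit L φ l (i + 1) i with hTe
  set Th := ∑ i ∈ R, w i • munit L φ l i i with hTh
  set Tf := ∑ i ∈ R, g i • munit L φ l i (i + 1) with hTf
  have hTeL : Te * L = L * Te := by
    rw [hTe, Finset.sum_mul, Finset.mul_sum]
    obtain ⟨n, rfl⟩ : ∃ n, l = n + 1 := ⟨l - 1, by omega⟩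
    rw [Finset.sum_range_succ', munit_zero_mul hL, add_zero, Finset.sum_range_succ,
      mul_munit hL, munit_left_zero hL (by omega), add_zero]
    refine Finset.sum_congr rfl fun i hi => ?_
    rw [munit_succ_mul hL (by have := Finset.mem_range.1 hi; omega), mul_munit hL]
  have hThL : L * Th = Th * L - (2 : k) • Te := by
    rw [eq_sub_iff_add_eq, hTh, hTe, Finset.mul_sum, Finset.smul_sum, Finset.sum_mul,
      ← Finset.sum_add_distrib]
    obtain ⟨n, rfl⟩ : ∃ n, l = n + 1 := ⟨l - 1, by omega⟩
    rw [Finset.sum_range_succ, Finset.sum_range_succ' (fun i => w i • munit L φ (n + 1) i i * L),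
      smul_mul_assoc, munit_zero_mul hL, smul_zero, add_zero, mul_smul_comm, mul_munit hL,
      munit_left_zero hL (show n + 1 ≤ n + 1 by omega), smul_zero, smul_zero, add_zero, add_zero]
    refine Finset.sum_congr rfl fun i hi => ?_
    rw [smul_mul_assoc, munit_succ_mul hL (by have := Finset.mem_range.1 hi; omega), mul_smul_comm,
      mul_munit hL, ← add_smul]
    congr 1
    simp only [hw]
    push_cast
    ring
  have hTfL : L * Tf = Tf * L + Th := by
    rw [hTf, hTh, Finset.mul_sum, Finset.sum_mul, ← Finset.sum_add_distrib]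
    obtain ⟨n, rfl⟩ : ∃ n, l = n + 1 := ⟨l - 1, by omega⟩
    have hl2 : ∀ i ∈ Finset.range (n + 1),
        g i • munit L φ (n + 1) i (i + 1) * L = g i • munit L φ (n + 1) i i := by
      intro i hi
      rcases Nat.lt_or_ge (i + 1) (n + 1) with h | h
      · rw [smul_mul_assoc, munit_succ_mul hL h]
      · have : i = n := by have := Finset.mem_range.1 hi; omega
        subst this
        simp [hg, munit]
    have hrhs : ∑ i ∈ Finset.range (n + 1),
        (g i • munit L φ (n + 1) i (i + 1) * L + w i • munit L φ (n + 1) i i) =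
        ∑ i ∈ Finset.range (n + 1), (g i + w i) • munit L φ (n + 1) i i :=
      Finset.sum_congr rfl fun i hi => by rw [hl2 i hi, ← add_smul]
    rw [hrhs]
    rw [Finset.sum_range_succ' (fun i => (g i + w i) • munit L φ (n + 1) i i),
      show (g 0 + w 0) = 0 by simp only [hg, hw]; push_cast; ring, zero_smul, add_zero,
      Finset.sum_range_succ, mul_smul_comm, mul_munit hL,
      munit_left_zero hL (show n + 1 ≤ n + 1 by omega), smul_zero, add_zero]
    refine Finset.sum_congr rfl fun i _ => ?_
    rw [mul_smul_comm, mul_munit hL]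
    congr 1
    simp only [hg, hw]
    push_cast
    ring
  -- the traces
  have htr : ∀ (i j : ℕ), i < l → LinearMap.trace k V (munit L φ l i j) = if i = j then m else 0 := by
    intro i j hi
    rcases Nat.lt_or_ge j l with hj | hj
    · exact trace_munit hL hφ hi hj
    · rw [show munit L φ l i j = 0 from if_neg (by omega), map_zero, if_neg (by omega)]
  have htr2 : ∀ i j a b : ℕ,
      LinearMap.trace k V (munit L φ l i j * munit L φ l a b) =
        if i < l ∧ j < l ∧ j = a ∧ i = b then m else 0 := by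
    intro i j a b
    rcases Nat.lt_or_ge i l with hi | hi
    swap
    · rw [munit_left_zero hL hi, zero_mul, map_zero, if_neg (by omega)]
    rcases Nat.lt_or_ge j l with hj | hj
    swap
    · rw [show munit L φ l i j = 0 from if_neg (by omega), zero_mul, map_zero, if_neg (by omega)]
    rcases Nat.lt_or_ge a l with ha | ha
    swap
    · rw [munit_left_zero hL ha, mul_zero, map_zero, if_neg (by omega)]
    rw [munit_mul_munit hL hφ i j a b hj ha, apply_ite (LinearMap.trace k V), map_zero]
    by_cases h : j = a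
    · rw [if_pos h, htr i b hi]
      simp [hi, h, ha]
    · rw [if_neg h, if_neg (by omega)]
  set β := m * ∑ i ∈ R, g i with hβ
  have hβ0 : β ≠ 0 := by
    refine mul_ne_zero hm fun h0 => hl1 ?_
    have := sum_weights (l : k) l
    rw [show ∑ i ∈ Finset.range l, ((i : k) + 1) * ((l : k) - 1 - i) = ∑ i ∈ R, g i from rfl, h0,
      mul_zero] at this
    linear_combination -this
  have hef : LinearMap.trace k V (Te * Tf) = β := by
    rw [hTe, hTf, hβ, Finset.sum_mul_sum]
    simp only [map_sum, mul_smul_comm, map_smul, smul_eq_mul, htr2]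
    rw [Finset.mul_sum]
    refine Finset.sum_congr rfl fun i hi => ?_
    have hi' := Finset.mem_range.1 hi
    rw [Finset.sum_eq_single i (fun j _ hj => by rw [if_neg (by omega), mul_zero])
      (fun h => absurd hi h)]
    rcases Nat.lt_or_ge (i + 1) l with h | h
    · rw [if_pos ⟨h, hi', rfl, rfl⟩, mul_comm]
    · have hz : g i = 0 := by
        simp only [hg]
        rw [show (l : k) = ((i + 1 : ℕ) : k) by rw [show i + 1 = l by omega]]
        push_cast
        ring
      rw [if_neg (by omega), hz, zero_mul, mul_zero]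
  have hhh : LinearMap.trace k V (Th * Th) = 2 * β := by
    have e1 : Th * Th = L * Tf * Th - Tf * L * Th := by
      rw [hTfL, add_mul]; abel
    have e2 : Tf * Th * L = Tf * L * Th + (2 : k) • (Tf * Te) := by
      rw [mul_assoc, mul_assoc, hThL, mul_sub, mul_smul_comm]; abel
    rw [e1, map_sub, mul_assoc L, LinearMap.trace_mul_comm k L (Tf * Th), e2, map_add, map_smul,
      LinearMap.trace_mul_comm k Tf Te, hef, smul_eq_mul]
    abel
  refine ⟨⟨Te, Th, Tf⟩, β, ⟨hβ0, ?_, ?_, hef, hhh, ?_, ?_⟩, ⟨hTeL.symm, hThL, hTfL⟩, ?_⟩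
  · simp only [hTe, Finset.sum_mul_sum, map_sum, htr2]
    exact Finset.sum_eq_zero fun i _ => Finset.sum_eq_zero fun j _ => if_neg (by omega)
  · simp only [hTe, hTh, Finset.sum_mul_sum, map_sum, mul_smul_comm, map_smul, htr2]
    exact Finset.sum_eq_zero fun i _ => Finset.sum_eq_zero fun j _ => by
      rw [if_neg (by omega), smul_zero]
  · simp only [hTh, hTf, Finset.sum_mul_sum, map_sum, smul_mul_smul_comm, map_smul, htr2]
    exact Finset.sum_eq_zero fun i _ => Finset.sum_eq_zero fun j _ => by
      rw [if_neg (by omega), smul_zero]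
  · simp only [hTf, Finset.sum_mul_sum, map_sum, smul_mul_smul_comm, map_smul, htr2]
    exact Finset.sum_eq_zero fun i _ => Finset.sum_eq_zero fun j _ => by
      rw [if_neg (by omega), smul_zero]
  intro c r hr hcL hcφ
  have hcu : ∀ i j, j < l → r ^ j • c (munit L φ l i j) = r ^ i • munit L φ l i j := by
    intro i j hj
    simp only [munit, if_pos hj, map_mul, map_pow, hcL, hcφ, _root_.smul_pow, smul_mul_assoc,
      mul_smul_comm, smul_smul]
    congr 1
    have h1 : r ^ (l - 1) = r ^ j * r ^ (l - 1 - j) := by rw [← pow_add]; congr 1; omega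
    rw [h1]
    field_simp
  refine ⟨?_, ?_, ?_⟩
  · simp only [hTe, map_sum, Finset.smul_sum]
    refine Finset.sum_congr rfl fun i hi => ?_
    refine smul_right_injective _ (pow_ne_zero i hr) ?_
    show r ^ i • c _ = r ^ i • r • _
    rw [hcu _ _ (Finset.mem_range.1 hi), smul_smul, ← pow_succ]
  · simp only [hTh, map_sum, map_smul]
    refine Finset.sum_congr rfl fun i hi => ?_
    congr 1
    exact smul_right_injective _ (pow_ne_zero i hr) (hcu _ _ (Finset.mem_range.1 hi))
  · simp only [hTf, map_sum, map_smul, Finset.smul_sum]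
    refine Finset.sum_congr rfl fun i hi => ?_
    rcases Nat.lt_or_ge (i + 1) l with h | h
    · refine smul_right_injective _ (pow_ne_zero (i + 1) hr) ?_
      show r ^ (i + 1) • g i • c _ = r ^ (i + 1) • r⁻¹ • g i • _
      rw [smul_comm, hcu _ _ h, smul_smul, smul_smul, smul_smul]
      congr 1
      rw [pow_succ]
      field_simp
    · rw [show munit L φ l i (i + 1) = 0 from if_neg (by omega)]
      simp

section Rep

variable {G : Type*} [Group G] [Finite G] (ρ : Representation k G V) {p : ℕ} [hp : Fact p.Prime]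
  [CharP k p] {x : G}

open PrimeDefect SelfCentralPrime in
open scoped Classical in
/-- A triple in `End V`, covariant under the normaliser of `⟨x⟩`, on which `x` is unipotent. -/
theorem exists_covariant_triple [FiniteDimensional k V] (hxo : orderOf x = p)
    (hsq : ¬ p ^ 2 ∣ Nat.card G) (hdim : Module.finrank k V + 2 ≤ p) (hx1 : ρ x ≠ 1) :
    ∃ (T : Triple k V) (β : k), T.HasForm β ∧
      (ρ x * T.e = T.e * ρ x ∧ ρ x * T.h = (T.h - (2 : k) • T.e) * ρ x ∧
        ρ x * T.f = (T.f + T.h - T.e) * ρ x) ∧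
      ∀ n ∈ nrm x, ∃ (r : k) (i : ℕ), r ≠ 0 ∧
        (Commute n x → ¬ p ∣ orderOf n → r = 1 ∧ i = 0) ∧
        ρ (n * x ^ i) * T.e = r • (T.e * ρ (n * x ^ i)) ∧
        ρ (n * x ^ i) * T.h = T.h * ρ (n * x ^ i) ∧
        ρ (n * x ^ i) * T.f = r⁻¹ • (T.f * ρ (n * x ^ i)) := by
  haveI := Fintype.ofFinite G
  set d := Module.finrank k V with hd
  set A := ρ x - 1 with hAdef
  -- the unipotent
  have hAd : A ^ d = 0 := by
    have hN : IsNilpotent A := by
      refine ⟨p, ?_⟩
      have h2 := congrArg (Polynomial.aeval (ρ x)) (sub_pow_char (p := p) (Polynomial.X : k[X]) 1)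
      simp only [map_sub, map_pow, Polynomial.aeval_X, map_one, one_pow] at h2
      rw [hAdef, h2, ← map_pow, ← hxo, pow_orderOf_eq_one, map_one, sub_self]
    have h1 := (LinearMap.isNilpotent_iff_charpoly A).1 hN
    have h2 := LinearMap.aeval_self_charpoly A
    rwa [h1, map_pow, Polynomial.aeval_X] at h2
  have hAp : A ^ p = 0 := pow_eq_zero_of_le (by omega) hAd
  have hxA : ρ x = 1 + A := by rw [hAdef]; abel
  obtain ⟨P, hP⟩ := exists_log (k := k) hAp
  set L := Polynomial.aeval A (X * P) with hLdef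
  have hLd : L ^ d = 0 := by
    rw [hLdef, ← map_pow, mul_pow, map_mul, map_pow, Polynomial.aeval_X, hAd, zero_mul]
  have hL0 : L ≠ 0 := fun h => hx1 (by rw [hxA, ← hP, h, texp_zero])
  set l := Nat.find (⟨d, hLd⟩ : ∃ n, L ^ n = 0) with hldef
  have hll : L ^ l = 0 := Nat.find_spec (⟨d, hLd⟩ : ∃ n, L ^ n = 0)
  have hld : l ≤ d := Nat.find_min' _ hLd
  have hlmin : ∀ n < l, L ^ n ≠ 0 := fun n hn => Nat.find_min _ hn
  have hl2 : 2 ≤ l := by
    by_contra h
    exact hL0 (by simpa using pow_eq_zero_of_le (show l ≤ 1 by omega) hll)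
  -- the complement in the normaliser
  set N := nrm x
  obtain ⟨W, D⟩ := exists_data hxo hsq
  set x' : N := ⟨x, Subgroup.le_normalizer (Subgroup.mem_zpowers x)⟩
  have hxo' : orderOf x' = p := by rw [← Subgroup.orderOf_coe]; exact hxo
  haveI hZn : ((Subgroup.zpowers x).subgroupOf N).Normal := Subgroup.normal_in_normalizer
  have hZc : Nat.card ((Subgroup.zpowers x).subgroupOf N) = p := by
    have hle : Subgroup.zpowers x ≤ N :=
      Subgroup.zpowers_le.2 (Subgroup.le_normalizer (Subgroup.mem_zpowers x))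
    exact (Nat.card_congr (Subgroup.subgroupOfEquivOfLe hle).toEquiv).trans
      ((Nat.card_zpowers x).trans hxo)
  have hcop : Nat.Coprime (Nat.card ((Subgroup.zpowers x).subgroupOf N))
      ((Subgroup.zpowers x).subgroupOf N).index := by
    rw [hZc, hp.out.coprime_iff_not_dvd]
    intro h
    refine hsq (Dvd.dvd.trans ?_ (Subgroup.card_subgroup_dvd_card N))
    rw [← Subgroup.card_mul_index ((Subgroup.zpowers x).subgroupOf N), hZc, pow_two]
    exact mul_dvd_mul_left p h
  obtain ⟨K, hK⟩ := Subgroup.exists_right_complement'_of_coprime hcop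
  haveI := Fintype.ofFinite K
  have hKp : ¬ p ∣ Nat.card K := by
    have h := hK.card_mul_card
    intro hd'
    refine hsq (Dvd.dvd.trans ?_ (Subgroup.card_subgroup_dvd_card N))
    rw [← h, hZc, pow_two]
    exact mul_dvd_mul_left p hd'
  have hK0 : (Fintype.card K : k) ≠ 0 := by
    rw [← Nat.card_eq_fintype_card, Ne, CharP.cast_eq_zero_iff k p]
    exact hKp
  let τ : K →* Module.End k V := ρ.comp (N.subtype.comp K.subtype)
  let r : K →* k :=
    ((ZMod.castHom (dvd_refl p) k).toMonoidHom.comp (Units.coeHom (ZMod p))).comp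
      (D.muHom.comp K.subtype)
  have hr0 : ∀ q, r q ≠ 0 := fun q => IsUnit.ne_zero ((Group.isUnit q).map r)
  have hτL : ∀ q : K, τ q * L = r q • (L * τ q) := by
    intro q
    have hval : ((D.mu (q : N) : ZMod p).val : k) = r q := by
      show _ = (ZMod.castHom (dvd_refl p) k) (D.mu (q : N) : ZMod p)
      rw [ZMod.castHom_apply, ZMod.natCast_val]
    have h1 : τ q * (1 + A) * τ q⁻¹ = (1 + A) ^ (D.mu (q : N) : ZMod p).val := by
      rw [← hxA, ← map_pow]
      show ρ _ * ρ x * ρ _ = _
      rw [← map_mul, ← map_mul]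
      exact congrArg ρ (D.mu_spec (q : N))
    have h2 := conj_log (k := k) hAp hP (τ q) (τ q⁻¹)
      (by rw [← map_mul, inv_mul_cancel, map_one]) (by rw [← map_mul, mul_inv_cancel, map_one]) _ h1
    rw [← hLdef, hval] at h2
    calc τ q * L = τ q * L * τ q⁻¹ * τ q := by
          rw [mul_assoc (τ q * L), ← map_mul, inv_mul_cancel, map_one, mul_one]
      _ = _ := by rw [h2, smul_mul_assoc]
  have hτLpow : ∀ (q : K) (n : ℕ), τ q * L ^ n = r q ^ n • (L ^ n * τ q) := by
    intro q n
    induction n with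
    | zero => simp
    | succ n ih =>
      rw [pow_succ, ← mul_assoc, ih, smul_mul_assoc, mul_assoc, hτL, mul_smul_comm, smul_smul,
        ← pow_succ, mul_assoc]
  -- an invariant complement of the kernel of `L ^ (l - 1)`
  set S := LinearMap.ker (L ^ (l - 1)) with hS
  obtain ⟨S', hS'⟩ := S.exists_isCompl
  have hSinv : ∀ (q : K), ∀ v ∈ S, τ q v ∈ S := by
    intro q v hv
    rw [hS, LinearMap.mem_ker] at hv ⊢
    have h := congrArg (fun f : Module.End k V => f v) (hτLpow q (l - 1))
    simp only [Module.End.mul_apply, LinearMap.smul_apply, hv, map_zero] at h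
    exact (smul_eq_zero.1 h.symm).resolve_left (pow_ne_zero _ (hr0 q))
  set P1 : Module.End k V := S.projection S' hS' with hP1
  have hP1mem : ∀ v, P1 v ∈ S := fun v => Submodule.projection_apply_mem hS' v
  have hP1id : ∀ v ∈ S, P1 v = v := fun v hv => Submodule.projection_apply_left hS' ⟨v, hv⟩
  set P2 : Module.End k V := (Fintype.card K : k)⁻¹ • ∑ q : K, τ q * P1 * τ q⁻¹ with hP2
  have hP2mem : ∀ v, P2 v ∈ S := fun v => by
    simp only [hP2, LinearMap.smul_apply, LinearMap.sum_apply, Module.End.mul_apply]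
    exact S.smul_mem _ (S.sum_mem fun q _ => hSinv q _ (hP1mem _))
  have hP2id : ∀ v ∈ S, P2 v = v := fun v hv => by
    simp only [hP2, LinearMap.smul_apply, LinearMap.sum_apply, Module.End.mul_apply]
    rw [Finset.sum_congr rfl (g := fun _ => v) fun q _ => by
      rw [hP1id _ (hSinv _ v hv), ← Module.End.mul_apply, ← map_mul, mul_inv_cancel, map_one,
        Module.End.one_apply],
      Finset.sum_const, Finset.card_univ, ← Nat.cast_smul_eq_nsmul k, smul_smul,
      inv_mul_cancel₀ hK0, one_smul]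
  have hP2c : ∀ q : K, τ q * P2 = P2 * τ q := by
    intro q
    simp only [hP2, mul_smul_comm, smul_mul_assoc, Finset.mul_sum, Finset.sum_mul]
    congr 1
    refine Fintype.sum_equiv (Equiv.mulLeft q) _ _ fun s => ?_
    simp only [Equiv.coe_mulLeft, mul_inv_rev, map_mul, mul_assoc, ← map_mul τ q⁻¹ q,
      inv_mul_cancel, map_one, mul_one]
  set T0 := LinearMap.ker P2 with hT0
  have hT0inv : ∀ (q : K), ∀ v ∈ T0, τ q v ∈ T0 := fun q v hv => by
    rw [hT0, LinearMap.mem_ker] at hv ⊢
    rw [← Module.End.mul_apply, ← hP2c, Module.End.mul_apply, hv, map_zero]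
  have hT0inj : ∀ v ∈ T0, (L ^ (l - 1)) v = 0 → v = 0 := fun v hv h => by
    rw [← hP2id v (LinearMap.mem_ker.2 h)]
    exact LinearMap.mem_ker.1 hv
  obtain ⟨t0, ht0, ht00⟩ : ∃ t ∈ T0, t ≠ 0 := by
    obtain ⟨v, hv⟩ : ∃ v, (L ^ (l - 1)) v ≠ 0 := by
      by_contra h
      push Not at h
      exact hlmin (l - 1) (by omega) (LinearMap.ext h)
    refine ⟨v - P2 v, ?_, fun h => hv ?_⟩
    · rw [hT0, LinearMap.mem_ker, map_sub, hP2id _ (hP2mem v), sub_self]
    · rw [sub_eq_zero] at h
      rw [h]
      exact LinearMap.mem_ker.1 (hP2mem v)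
  -- the coordinate functional
  let ι : (Fin l → T0) →ₗ[k] V :=
    ∑ i : Fin l, (L ^ (i : ℕ)).comp (T0.subtype.comp (LinearMap.proj i))
  have hι : Function.Injective ι := by
    rw [← LinearMap.ker_eq_bot, LinearMap.ker_eq_bot']
    intro t ht
    funext i
    induction i using WellFoundedLT.induction with
    | _ i IH =>
      refine Subtype.ext (hT0inj _ (t i).2 ?_)
      have h := congrArg (fun v => (L ^ (l - 1 - (i : ℕ))) v) ht
      simp only [ι, LinearMap.sum_apply, map_sum, map_zero, LinearMap.comp_apply,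
        LinearMap.proj_apply, Submodule.coe_subtype, ← Module.End.mul_apply, ← pow_add] at h
      rw [Finset.sum_eq_single i] at h
      · rwa [show l - 1 - (i : ℕ) + i = l - 1 by omega] at h
      · intro j _ hji
        rcases lt_or_gt_of_ne hji with hlt | hgt
        · rw [IH j hlt]; simp
        · rw [pow_eq_zero_of_le (by
            have : (i : ℕ) < j := hgt
            omega) hll, LinearMap.zero_apply]
      · simp
  obtain ⟨γ, hγ⟩ := ι.exists_leftInverse_of_injective (LinearMap.ker_eq_bot.2 hι)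
  set φ0 : Module.End k V :=
    T0.subtype.comp ((LinearMap.proj (⟨l - 1, by omega⟩ : Fin l)).comp γ) with hφ0
  have hφ0mem : ∀ v, φ0 v ∈ T0 := fun v => by simp [hφ0]
  have hφ0id : ∀ i < l, ∀ v ∈ T0, φ0 ((L ^ i) v) = if i = l - 1 then v else 0 := by
    intro i hi v hv
    have h1 : ι (Pi.single ⟨i, hi⟩ ⟨v, hv⟩) = (L ^ i) v := by
      simp only [ι, LinearMap.sum_apply, LinearMap.comp_apply, LinearMap.proj_apply,
        Submodule.coe_subtype]
      rw [Finset.sum_eq_single ⟨i, hi⟩]
      · rw [Pi.single_eq_same]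
      · intro j _ hj; rw [Pi.single_eq_of_ne hj]; simp
      · simp
    rw [← h1, hφ0, LinearMap.comp_apply, LinearMap.comp_apply, ← LinearMap.comp_apply γ, hγ,
      LinearMap.id_apply, LinearMap.proj_apply, Submodule.coe_subtype]
    split_ifs with h
    · subst h; rw [Pi.single_eq_same]
    · rw [Pi.single_eq_of_ne (by intro e; exact h (congrArg Fin.val e).symm)]; rfl
  set φ : Module.End k V :=
    (Fintype.card K : k)⁻¹ • ∑ q : K, (r q ^ (l - 1))⁻¹ • (τ q⁻¹ * φ0 * τ q) with hφdef
  have hφmem : ∀ v, φ v ∈ T0 := fun v => by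
    simp only [hφdef, LinearMap.smul_apply, LinearMap.sum_apply, Module.End.mul_apply]
    exact T0.smul_mem _ (T0.sum_mem fun q _ => T0.smul_mem _ (hT0inv _ _ (hφ0mem _)))
  have hφid : ∀ i < l, ∀ v ∈ T0, φ ((L ^ i) v) = if i = l - 1 then v else 0 := by
    intro i hi v hv
    have hterm : ∀ q : K, (r q ^ (l - 1))⁻¹ • (τ q⁻¹ (φ0 (τ q ((L ^ i) v)))) =
        if i = l - 1 then v else 0 := by
      intro q
      rw [← Module.End.mul_apply (τ q), hτLpow, LinearMap.smul_apply, Module.End.mul_apply,
        map_smul, hφ0id i hi _ (hT0inv q v hv)]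
      split_ifs with h
      · subst h
        rw [map_smul, ← Module.End.mul_apply, ← map_mul, inv_mul_cancel, map_one,
          Module.End.one_apply, smul_smul, inv_mul_cancel₀ (pow_ne_zero _ (hr0 q)), one_smul]
      · simp
    simp only [hφdef, LinearMap.smul_apply, LinearMap.sum_apply, Module.End.mul_apply]
    rw [Finset.sum_congr rfl fun q _ => hterm q, Finset.sum_const, Finset.card_univ,
      ← Nat.cast_smul_eq_nsmul k, smul_smul, inv_mul_cancel₀ hK0, one_smul]
  have hφφ : ∀ c, φ * L ^ c * φ = if c = l - 1 then φ else 0 := by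
    intro c
    ext v
    simp only [Module.End.mul_apply]
    rcases Nat.lt_or_ge c l with hc | hc
    · rw [hφid c hc _ (hφmem v)]
      split_ifs <;> rfl
    · rw [pow_eq_zero_of_le hc hll, if_neg (by omega)]
      simp
  have hφc : ∀ q : K, τ q * φ = (r q ^ (l - 1))⁻¹ • (φ * τ q) := by
    intro q
    simp only [hφdef, mul_smul_comm, smul_mul_assoc, Finset.mul_sum, Finset.sum_mul,
      Finset.smul_sum, smul_smul]
    refine Fintype.sum_equiv (Equiv.mulRight q⁻¹) _ _ fun s => ?_
    simp only [Equiv.coe_mulRight, mul_inv_rev, inv_inv, map_mul,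
      show r q⁻¹ = (r q)⁻¹ from eq_inv_of_mul_eq_one_left (by rw [← map_mul, inv_mul_cancel, map_one])]
    congr 1
    · rw [mul_pow, inv_pow, mul_inv, inv_inv]
      have := hr0 q
      field_simp
    · simp only [mul_assoc, ← map_mul τ q⁻¹ q, inv_mul_cancel, map_one, mul_one]
  -- non-vanishing
  have hsmall : ∀ n : ℕ, 0 < n → n < p → (n : k) ≠ 0 := fun n h1 h2 h0 => by
    rw [CharP.cast_eq_zero_iff k p] at h0
    have := Nat.le_of_dvd h1 h0
    omega
  have hm : LinearMap.trace k V (φ * L ^ (l - 1)) ≠ 0 := by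
    have hid : IsIdempotentElem (φ * L ^ (l - 1)) := by
      rw [IsIdempotentElem, ← mul_assoc, hφφ, if_pos rfl]
    have hproj := LinearMap.IsIdempotentElem.isProj_range _ hid
    rw [hproj.trace]
    refine hsmall _ ?_ ((Submodule.finrank_le _).trans_lt (by omega))
    have hmem : t0 ∈ LinearMap.range (φ * L ^ (l - 1)) := ⟨t0, by
      rw [Module.End.mul_apply, hφid (l - 1) (by omega) t0 ht0, if_pos rfl]⟩
    refine Nat.pos_of_ne_zero fun h0 => ht00 ?_
    rw [Submodule.finrank_eq_zero] at h0
    simpa [h0] using hmem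
  have h2k : (2 : k) ≠ 0 := by exact_mod_cast hsmall 2 (by norm_num) (by omega)
  have hl1 : ((l : k) - 1) * l * ((l : k) + 1) ≠ 0 := by
    have a1 := hsmall (l - 1) (by omega) (by omega)
    rw [Nat.cast_sub (by omega), Nat.cast_one] at a1
    have a2 := hsmall (l + 1) (by omega) (by omega)
    rw [Nat.cast_add, Nat.cast_one] at a2
    exact mul_ne_zero (mul_ne_zero a1 (hsmall l (by omega) (by omega))) a2
  obtain ⟨T, β, hform, ⟨he, hh, hf⟩, hcov⟩ := exists_triple hl2 hll hφφ hl1 hm
  -- the action of `x`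
  have hLp : L ^ (p - 2) = 0 := pow_eq_zero_of_le (by omega) hll
  refine ⟨T, β, hform, ⟨?_, ?_, ?_⟩, fun n hn => ?_⟩
  · rw [hxA, ← hP, texp_mul (k := k) hLp h2k (u := T.e) (v := 0) (w := 0) (by rw [add_zero, he])
      (by simp) (by simp)]
    simp
  · rw [hxA, ← hP, texp_mul (k := k) hLp h2k (u := T.h) (v := -((2 : k) • T.e)) (w := 0)
      (by rw [hh, sub_eq_add_neg]) (by simp [he]) (by simp)]
    simp [sub_eq_add_neg]
  · rw [hxA, ← hP, texp_mul (k := k) hLp h2k (u := T.f) (v := T.h) (w := -((2 : k) • T.e)) hf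
      (by rw [hh, sub_eq_add_neg]) (by simp [he])]
    congr 1
    rw [smul_neg, smul_smul, inv_mul_cancel₀ h2k, one_smul, sub_eq_add_neg]
  -- the normaliser
  obtain ⟨⟨⟨z, hz⟩, q⟩, hzq⟩ := hK.2 (⟨n, hn⟩ : N)
  obtain ⟨i, hi⟩ := (mem_powers_iff_mem_zpowers (x := x)).2 (Subgroup.mem_subgroupOf.1 hz)
  have hnq : n = x ^ i * ((q : N) : G) := by
    refine (congrArg Subtype.val hzq).symm.trans ?_
    show (z : G) * ((q : N) : G) = _
    rw [show (z : G) = x ^ i from hi.symm]
  -- move the power of `x` to the right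
  have hqx : ∃ j, n * x ^ j = ((q : N) : G) ∧ (Commute n x → ¬ p ∣ orderOf n → j % p = 0) := by
    have hnn : n⁻¹ * (x ^ i)⁻¹ * n ∈ Subgroup.zpowers x :=
      (Subgroup.mem_normalizer_iff''.1 hn _).1 (inv_mem (Subgroup.npow_mem_zpowers x i))
    obtain ⟨j, hj⟩ := (mem_powers_iff_mem_zpowers (x := x)).2 hnn
    refine ⟨j, ?_, fun hc hnp => ?_⟩
    · rw [show x ^ j = n⁻¹ * (x ^ i)⁻¹ * n from hj, hnq]
      group
    · have h1 : x ^ j = (x ^ i)⁻¹ := by
        rw [show x ^ j = n⁻¹ * (x ^ i)⁻¹ * n from hj, mul_assoc,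
          ← ((hc.pow_right i).inv_right).eq, inv_mul_cancel_left]
      have hqn : ((q : N) : G) = n * x ^ j := by
        rw [h1, (hc.pow_right i).inv_right.eq, eq_inv_mul_iff_mul_eq]
        exact hnq.symm
      have hq' : ¬ p ∣ orderOf ((q : N) : G) := fun h => hKp (h.trans (by
        rw [Subgroup.orderOf_coe, Subgroup.orderOf_coe]
        exact orderOf_dvd_natCard q))
      by_contra hj0
      have hxj : orderOf (x ^ j) = p := by
        rcases (Nat.dvd_prime hp.out).1 (hxo ▸ orderOf_pow_dvd j : orderOf (x ^ j) ∣ p) with h | h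
        · refine absurd ?_ hj0
          rw [orderOf_eq_one_iff, ← orderOf_dvd_iff_pow_eq_one, hxo] at h
          exact Nat.mod_eq_zero_of_dvd h |>.trans rfl
        · exact h
      apply hq'
      rw [hqn, (hc.pow_right j).orderOf_mul_eq_mul_orderOf_of_coprime (by
        rw [hxj]; exact (hp.out.coprime_iff_not_dvd.2 hnp).symm), hxj]
      exact dvd_mul_left p _
  obtain ⟨j, hj, hj0⟩ := hqx
  refine ⟨r q, j % p, hr0 q, fun hc hnp => ⟨?_, hj0 hc hnp⟩, ?_⟩
  · have hq1 : ((q : N) : G) = n := by
      have h0 := hj0 hc hnp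
      rw [← hj, ← pow_mod_orderOf, hxo, h0, pow_zero, mul_one]
    have hmu : D.muHom (q : N) = 1 := by
      show D.mu (q : N) = 1
      rw [D.mu_eq_one_iff, D.mem_C_iff, hq1]
      exact hc
    simp [r, hmu]
  have hx' : ρ (n * x ^ (j % p)) = τ q := by
    show _ = ρ ((q : N) : G)
    rw [← hj, ← hxo, pow_mod_orderOf]
  rw [hx']
  have hinv : τ q⁻¹ * τ q = 1 := by rw [← map_mul, inv_mul_cancel, map_one]
  have hinv' : τ q * τ q⁻¹ = 1 := by rw [← map_mul, mul_inv_cancel, map_one]
  let c : Module.End k V →ₐ[k] Module.End k V :=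
    { toFun := fun f => τ q * f * τ q⁻¹
      map_one' := by simp only [mul_one, hinv']
      map_mul' := fun a b => by
        simp only [mul_assoc]
        rw [← mul_assoc (τ q⁻¹) (τ q), hinv, one_mul]
      map_zero' := by simp
      map_add' := fun a b => by simp [mul_add, add_mul]
      commutes' := fun z => by
        rw [← Algebra.commutes, mul_assoc, hinv', mul_one] }
  have hc : ∀ f : Module.End k V, c f * τ q = τ q * f := fun f => by
    show τ q * f * τ q⁻¹ * τ q = _
    rw [mul_assoc (τ q * f), hinv, mul_one]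
  have hcancel : ∀ (f : Module.End k V) (s : k), τ q * f = s • (f * τ q) → c f = s • f := by
    intro f s h
    show τ q * f * τ q⁻¹ = _
    rw [h, smul_mul_assoc, mul_assoc, hinv', mul_one]
  obtain ⟨h1, h2, h3⟩ := hcov c (r q) (hr0 q) (hcancel _ _ (hτL q)) (hcancel _ _ (hφc q))
  refine ⟨?_, ?_, ?_⟩
  · rw [← hc, h1, smul_mul_assoc]
  · rw [← hc, h2]
  · rw [← hc, h3, smul_mul_assoc]

end Rep

end CfsgLib.HalfPSL
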