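import Cfsg.Agent.Lib.HalfPSL.Transfer
import Cfsg.Agent.Lib.HalfPSL.Torus
import Mathlib.LinearAlgebra.Matrix.ToLin

/-!
# A three dimensional orthogonal representation from a small one

`x` has order `p`, `p² ∤ |G|` and `G` acts in dimension at most `(p - 1) / 2` in characteristic `p`
with `x` non-trivial.  The transfer of the projection of `End V` onto an `sl₂`-triple gives a three
dimensional orthogonal representation of `G` on which `x` is a regular unipotent and the
`p'`-elements centralising `x` are trivial.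
-/

set_option autoImplicit false
set_option linter.unusedSectionVars false
set_option linter.style.haveILetI false

noncomputable section

namespace CfsgLib.HalfPSL

open Matrix

variable {k : Type*} [Field k]

/-- The image of `!![1, 1; 0, 1]` in the adjoint representation. -/
def regUnip : Matrix (Fin 3) (Fin 3) k := !![1, -2, -1; 0, 1, 1; 0, 0, 1]

/-- The Gram matrix of the trace form on `sl₂`. -/
def gram : Matrix (Fin 3) (Fin 3) k := !![0, 0, 1; 0, 2, 0; 1, 0, 0]

variable {V : Type*} [AddCommGroup V] [Module k V] [FiniteDimensional k V]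

/-- The trace form on endomorphisms. -/
def trForm (k : Type*) [Field k] (V : Type*) [AddCommGroup V] [Module k V] :
    Module.End k V →ₗ[k] Module.End k V →ₗ[k] k :=
  LinearMap.compr₂ (LinearMap.mul k (Module.End k V)) (LinearMap.trace k V)

theorem trForm_apply (f g : Module.End k V) : trForm k V f g = LinearMap.trace k V (f * g) := rfl

theorem trForm_comm (f g : Module.End k V) : trForm k V f g = trForm k V g f := by
  rw [trForm_apply, trForm_apply, LinearMap.trace_mul_comm]

theorem eq_zero_of_trForm {f : Module.End k V} (h : ∀ g, trForm k V f g = 0) : f = 0 := by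
  refine LinearMap.ext fun w => (Module.forall_dual_apply_eq_zero_iff k (f w)).1 fun φ => ?_
  have := h (φ.smulRight w)
  rw [trForm_apply, show f * φ.smulRight w = φ.smulRight (f w) from
    LinearMap.ext fun v => by simp, LinearMap.trace_smulRight] at this
  simpa using this

variable {G : Type*} [Group G] [Finite G] (ρ : Representation k G V) {p : ℕ} [hp : Fact p.Prime]
  [CharP k p] {x : G}

open PrimeDefect in
/-- The orthogonal representation, when `x` has nilpotency index at most `p / 2` and the dimension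
is at most `p - 2`. -/
theorem exists_three_dim_of_pow (hxo : orderOf x = p) (hsq : ¬ p ^ 2 ∣ Nat.card G)
    (hdim : Module.finrank k V + 2 ≤ p) {l : ℕ} (hl : 2 * l ≤ p) (hAd : (ρ x - 1) ^ l = 0)
    (hx1 : ρ x ≠ 1) :
    ∃ ψ : G →* Matrix (Fin 3) (Fin 3) k, (∀ g, (ψ g)ᵀ * gram * ψ g = gram) ∧ ψ x = regUnip ∧
      (∀ v, Commute v x → ¬ p ∣ orderOf v → ψ v = 1) := by
  classical
  obtain ⟨T, β, hform, ⟨hxe, hxh, hxf⟩, hnorm⟩ := exists_covariant_triple ρ hxo hsq hdim hx1
  have h2 : (2 : k) ≠ 0 := by
    intro h0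
    have h0' : ((2 : ℕ) : k) = 0 := by exact_mod_cast h0
    rw [CharP.cast_eq_zero_iff k p] at h0'
    have := Nat.le_of_dvd two_pos h0'
    have : 0 < Module.finrank k V := by
      by_contra hz
      refine hx1 (LinearMap.ext fun v => ?_)
      have : Subsingleton V := (Module.finrank_zero_iff (R := k)).1 (by omega)
      exact Subsingleton.elim _ _
    omega
  have hβ := hform.ne_zero
  set B := trForm k V with hBdef
  set σ := Representation.linHom ρ ρ with hσdef
  have hσ : ∀ (g : G) (f : Module.End k V), σ g f = ρ g * f * ρ g⁻¹ := linHom_eq ρ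
  have hinv : ∀ (g : G) u v, B (σ g u) (σ g v) = B u v := by
    intro g u v
    rw [hσ, hσ, hBdef, trForm_apply, trForm_apply,
      show ρ g * u * ρ g⁻¹ * (ρ g * v * ρ g⁻¹) = ρ g * (u * v * ρ g⁻¹) by
        simp only [mul_assoc]
        rw [← mul_assoc (ρ g⁻¹) (ρ g), ← map_mul, inv_mul_cancel, map_one, one_mul],
      LinearMap.trace_mul_comm, mul_assoc (u * v), ← map_mul, inv_mul_cancel, map_one, mul_one]
  have hconj : ∀ (g : G) (f f' : Module.End k V), ρ g * f = f' * ρ g → σ g f = f' := by
    intro g f f' h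
    rw [hσ, h, mul_assoc, ← map_mul, mul_inv_cancel, map_one, mul_one]
  -- the values of the form on the triple
  have Bee : B T.e T.e = 0 := hform.ee
  have Beh : B T.e T.h = 0 := hform.eh
  have Bef : B T.e T.f = β := hform.ef
  have Bhh : B T.h T.h = 2 * β := hform.hh
  have Bhf : B T.h T.f = 0 := hform.hf
  have Bff : B T.f T.f = 0 := hform.ff
  have Bhe : B T.h T.e = 0 := (trForm_comm _ _).trans Beh
  have Bfe : B T.f T.e = β := (trForm_comm _ _).trans Bef
  have Bfh : B T.f T.h = 0 := (trForm_comm _ _).trans Bhf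
  -- the projection on the triple
  set π : Module.End k (Module.End k V) :=
    β⁻¹ • ((B.flip T.f).smulRight T.e + (B.flip T.e).smulRight T.f +
      (2 : k)⁻¹ • (B.flip T.h).smulRight T.h) with hπdef
  have hπ : ∀ f, π f = β⁻¹ • (B f T.f • T.e + B f T.e • T.f +
      (2 : k)⁻¹ • B f T.h • T.h) := fun f => by simp [hπdef]
  have hπe : π T.e = T.e := by simp [hπ, Bee, Beh, Bef, smul_smul, hβ]
  have hπh : π T.h = T.h := by
    rw [hπ, Bhf, Bhe, Bhh]
    simp [smul_smul, h2, hβ]
  have hπf : π T.f = T.f := by simp [hπ, Bff, Bfh, Bfe, smul_smul, hβ]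
  have hidem : IsIdempotentElem π := by
    refine LinearMap.ext fun f => ?_
    rw [Module.End.mul_apply, hπ f]
    simp [map_add, map_smul, hπe, hπh, hπf]
  have hπadj : ∀ u v, B (π u) v = B u (π v) := by
    intro u v
    simp only [hπ, map_add, map_smul, LinearMap.add_apply, LinearMap.smul_apply, smul_eq_mul]
    rw [trForm_comm T.f v, trForm_comm T.e v, trForm_comm T.h v]
    ring
  have hxE : σ x T.e = T.e := hconj x _ _ hxe
  have hxH : σ x T.h = T.h - (2 : k) • T.e := hconj x _ _ hxh
  have hxF : σ x T.f = T.f + T.h - T.e := hconj x _ _ hxf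
  have hπx : Commute π (σ x) := by
    refine LinearMap.ext fun f => ?_
    rw [Module.End.mul_apply, Module.End.mul_apply, hπ, hπ f]
    have e1 : B (σ x f) T.e = B f T.e := by
      conv_lhs => rw [← hxE]
      exact hinv x f T.e
    have e2 : B (σ x f) T.h = B f T.h + 2 * B f T.e := by
      have := hinv x f T.h
      rw [hxH, map_sub, map_smul, smul_eq_mul, e1] at this
      linear_combination this
    have e3 : B (σ x f) T.f = B f T.f - B f T.h - B f T.e := by
      have := hinv x f T.f
      rw [hxF, map_sub, map_add, e1, e2] at this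
      linear_combination this
    rw [e1, e2, e3]
    simp only [map_add, map_smul, hxE, hxH, hxF]
    match_scalars <;> field_simp <;> ring
  have hπn : ∀ n ∈ nrm x, Commute π (σ n) := by
    intro n hn
    obtain ⟨r, i, hr, -, h1, h2', h3⟩ := hnorm n hn
    set m := n * x ^ i
    have hE : σ m T.e = r • T.e := hconj m _ _ (by rw [h1, smul_mul_assoc])
    have hH : σ m T.h = T.h := hconj m _ _ h2'
    have hF : σ m T.f = r⁻¹ • T.f := hconj m _ _ (by rw [h3, smul_mul_assoc])
    have hm : Commute π (σ m) := by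
      refine LinearMap.ext fun f => ?_
      rw [Module.End.mul_apply, Module.End.mul_apply, hπ, hπ f]
      have e1 : B (σ m f) T.e = r⁻¹ * B f T.e := by
        have := hinv m f T.e
        rw [hE, map_smul, smul_eq_mul] at this
        rw [← this, ← mul_assoc, inv_mul_cancel₀ hr, one_mul]
      have e2 : B (σ m f) T.h = B f T.h := by
        conv_lhs => rw [← hH]
        exact hinv m f T.h
      have e3 : B (σ m f) T.f = r * B f T.f := by
        have := hinv m f T.f
        rw [hF, map_smul, smul_eq_mul] at this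
        rw [← this, ← mul_assoc, mul_inv_cancel₀ hr, one_mul]
      rw [e1, e2, e3]
      simp only [map_add, map_smul, hE, hH, hF]
      match_scalars <;> field_simp
    have hxi : Commute π (σ (x ^ i)⁻¹) := by
      have h5 : Commute π (σ (x ^ i)) := by rw [map_pow]; exact hπx.pow_right i
      have h6 : σ (x ^ i) * σ (x ^ i)⁻¹ = 1 := by rw [← map_mul, mul_inv_cancel, map_one]
      have h7 : σ (x ^ i)⁻¹ * σ (x ^ i) = 1 := by rw [← map_mul, inv_mul_cancel, map_one]
      show π * σ (x ^ i)⁻¹ = σ (x ^ i)⁻¹ * π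
      calc π * σ (x ^ i)⁻¹ = σ (x ^ i)⁻¹ * σ (x ^ i) * π * σ (x ^ i)⁻¹ := by rw [h7, one_mul]
        _ = σ (x ^ i)⁻¹ * π * (σ (x ^ i) * σ (x ^ i)⁻¹) := by
            rw [mul_assoc (σ (x ^ i)⁻¹) (σ (x ^ i)), ← h5.eq]
            simp only [mul_assoc]
        _ = _ := by rw [h6, mul_one]
    have : σ n = σ m * σ (x ^ i)⁻¹ := by rw [← map_mul, mul_inv_cancel_right]
    rw [this]
    exact hm.mul_right hxi
  -- the nilpotency on `End V`
  have hD : (σ x - 1) ^ (p - 1) = 0 := by
    refine LinearMap.ext fun h => LinearMap.ext fun w => ?_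
    have := conj_sub_one_apply (X := ρ x) (Y := ρ x⁻¹)
      (by rw [← map_mul, mul_inv_cancel, map_one]) (by rw [← map_mul, inv_mul_cancel, map_one]) hAd
      (σ x) (fun f => hσ x f) h (p - 1) 0 l w (by omega)
      (by rw [hAd]; rfl)
    simpa using this
  obtain ⟨e, heid, hec, hinj1, hinj2, headj⟩ := exists_idempotent σ hxo hsq hD π hidem hπn
  have headj' := headj B hinv hπadj
  set u : (Fin 3 → k) → Module.End k V := fun c => c 0 • T.e + c 1 • T.h + c 2 • T.f with hu
  have hπu : ∀ c, π (u c) = u c := fun c => by simp [hu, hπe, hπh, hπf]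
  have hu0 : ∀ c, u c = 0 → c = 0 := by
    intro c hc
    have h1 := congrArg (fun f => B f T.f) hc
    have h2' := congrArg (fun f => B f T.h) hc
    have h3 := congrArg (fun f => B f T.e) hc
    simp [hu, Bef, Bff, Bhf, Beh, Bhh, Bfh, Bee, Bhe, Bfe, hβ, h2] at h1 h2' h3
    funext i; fin_cases i <;> assumption
  -- the range of `e` is spanned by the image of the triple
  have hspan : ∀ w, e w = w → ∃ c, w = e (u c) := by
    let co : Module.End k V →ₗ[k] (Fin 3 → k) :=
      LinearMap.pi ![β⁻¹ • B.flip T.f, (β⁻¹ * (2 : k)⁻¹) • B.flip T.h, β⁻¹ • B.flip T.e]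
    have hco : ∀ f, π f = u (co f) := by
      intro f
      simp only [hπ, hu, co, LinearMap.pi_apply, Matrix.cons_val_zero, Matrix.cons_val_one,
        Matrix.cons_val_two, Matrix.head_cons, Matrix.tail_cons, LinearMap.smul_apply,
        LinearMap.flip_apply, smul_eq_mul]
      module
    let ul : (Fin 3 → k) →ₗ[k] Module.End k V :=
      { toFun := u
        map_add' := fun a b => by simp only [hu, Pi.add_apply]; module
        map_smul' := fun a b => by
          simp only [hu, Pi.smul_apply, smul_eq_mul, RingHom.id_apply]; module }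
    let Λ : (Fin 3 → k) →ₗ[k] (Fin 3 → k) := co.comp (e.comp ul)
    have hΛ : Function.Injective Λ := by
      rw [← LinearMap.ker_eq_bot, LinearMap.ker_eq_bot']
      intro c hc
      refine hu0 c (hinj1 _ (hπu c) (hinj2 _ ?_ ?_))
      · rw [← Module.End.mul_apply, heid.eq]
      · rw [hco, show co (e (u c)) = 0 from hc]
        simp [hu]
    intro w hw
    obtain ⟨c, hc⟩ := LinearMap.surjective_of_injective hΛ (co w)
    refine ⟨c, sub_eq_zero.1 (hinj2 _ ?_ ?_)⟩
    · rw [map_sub, hw, ← Module.End.mul_apply, heid.eq]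
    · rw [map_sub, hco, hco, show co (e (u c)) = co w from hc, sub_self]
  set a0 := e T.e with ha0
  set a1 := e T.h with ha1
  set a2 := e T.f with ha2
  have heu : ∀ c, e (u c) = c 0 • a0 + c 1 • a1 + c 2 • a2 := fun c => by
    simp [hu, ha0, ha1, ha2]
  have hse : ∀ (g : G) f, σ g (e f) = e (σ g f) := fun g f => by
    rw [← Module.End.mul_apply, ← (hec g).eq, Module.End.mul_apply]
  have hx0 : σ x a0 = a0 := by rw [ha0, hse, hxE]
  have hx1' : σ x a1 = a1 - (2 : k) • a0 := by rw [ha1, hse, hxH, map_sub, map_smul]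
  have hx2 : σ x a2 = a2 + a1 - a0 := by rw [ha2, hse, hxF, map_sub, map_add]
  have hee : ∀ f, e (e f) = e f := fun f => by rw [← Module.End.mul_apply, heid.eq]
  -- the Gram matrix
  have c00 : B a0 a0 = 0 := by
    have := hinv x a1 a0
    rw [hx0, hx1', map_sub, map_smul, LinearMap.sub_apply, LinearMap.smul_apply, smul_eq_mul,
      sub_eq_self, mul_eq_zero] at this
    exact this.resolve_left h2
  have c10 : B a1 a0 = 0 := by
    have := hinv x a2 a0
    simp only [hx0, hx2, map_sub, map_add, LinearMap.sub_apply, LinearMap.add_apply, c00, sub_zero,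
      add_eq_left] at this
    exact this
  have c01 : B a0 a1 = 0 := (trForm_comm _ _).trans c10
  set β' := B a0 a2 with hβ'
  have c20 : B a2 a0 = β' := trForm_comm _ _
  have c11 : B a1 a1 = 2 * β' := by
    have := hinv x a1 a2
    simp only [hx1', hx2, map_sub, map_add, map_smul, LinearMap.sub_apply, LinearMap.add_apply,
      LinearMap.smul_apply, smul_eq_mul, c00, c01, c10, ← hβ'] at this
    linear_combination this
  have c12 : B a1 a2 = 0 := by
    have := hinv x a2 a2
    simp only [hx2, map_sub, map_add, LinearMap.sub_apply, LinearMap.add_apply, c00, c01, c10,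
      c20, ← hβ', c11, trForm_comm a2 a1] at this
    have h' : (2 : k) * B a1 a2 = 0 := by linear_combination this - (trForm_comm a2 a1 : B a2 a1 = B a1 a2)
    exact (mul_eq_zero.1 h').resolve_left h2
  have hβ'0 : β' ≠ 0 := by
    intro h0
    have ha : a0 = 0 := by
      refine eq_zero_of_trForm fun f => ?_
      show B a0 f = 0
      rw [ha0, ← hee, headj' _ f, ← ha0]
      obtain ⟨c, hc⟩ := hspan (e f) (hee f)
      rw [hc, heu]
      simp [c00, c01, ← hβ', h0]
    have h := hu0 ![1, 0, 0] (hinj1 _ (hπu _) (by rw [heu]; simp [ha]))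
    simpa using congrFun h 0
  -- an adapted basis
  set s := -(B a2 a2) / (2 * β') with hs
  set a3 := a2 + s • a0 with ha3
  have hx3 : σ x a3 = a3 + a1 - a0 := by rw [ha3, map_add, map_smul, hx2, hx0]; abel
  have c03 : B a0 a3 = β' := by rw [ha3, map_add, map_smul, c00, ← hβ']; simp
  have c30 : B a3 a0 = β' := (trForm_comm _ _).trans c03
  have c13 : B a1 a3 = 0 := by rw [ha3, map_add, map_smul, c12, c10]; simp
  have c31 : B a3 a1 = 0 := (trForm_comm _ _).trans c13
  have c33 : B a3 a3 = 0 := by
    simp only [ha3, map_add, map_smul, LinearMap.add_apply, LinearMap.smul_apply, smul_eq_mul,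
      c00, c20, ← hβ']
    rw [hs]
    field_simp
    ring
  set b : Fin 3 → Module.End k V := ![a0, a1, a3] with hb
  have hgram : ∀ i j, B (b i) (b j) = β' * gram i j := by
    intro i j
    fin_cases i <;> fin_cases j <;>
      simp [hb, gram, c00, c01, c10, c11, c03, c30, c13, c31, c33, mul_comm β' 2]
  have hbe : ∀ i, e (b i) = b i := by
    intro i
    fin_cases i <;> simp [hb, ha0, ha1, ha2, ha3, hee]
  let coord : Module.End k V → Fin 3 → k := fun w =>
    ![B w a3 / β', B w a1 / (2 * β'), B w a0 / β']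
  have hbu : ∀ c : Fin 3 → k, coord (∑ i, c i • b i) = c := by
    intro c
    funext i
    fin_cases i <;>
      simp [coord, hb, Fin.sum_univ_three, c00, c01, c10, c11, c03, c30, c13, c31, c33, hβ'0, h2]
  have hwb : ∀ w, e w = w → w = ∑ i, coord w i • b i := by
    intro w hw
    obtain ⟨c, hc⟩ := hspan w hw
    have : w = ∑ i, ![c 0 - c 2 * s, c 1, c 2] i • b i := by
      rw [hc, heu]
      simp only [hb, ha3, Fin.sum_univ_three, Matrix.cons_val_zero, Matrix.cons_val_one,
        Matrix.cons_val_two, Matrix.head_cons, Matrix.tail_cons]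
      module
    conv_rhs => rw [this, hbu]
    exact this
  set P : G → Matrix (Fin 3) (Fin 3) k := fun g => Matrix.of fun i j => coord (σ g (b j)) i with hP
  have hσb : ∀ g j, σ g (b j) = ∑ i, P g i j • b i := by
    intro g j
    refine hwb _ ?_
    rw [← hse, hbe]
  have huniq : ∀ c c' : Fin 3 → k, ∑ i, c i • b i = ∑ i, c' i • b i → c = c' :=
    fun c c' h => by rw [← hbu c, h, hbu]
  have hP1 : P 1 = 1 := by
    ext i j
    refine congrFun (huniq (fun i => P 1 i j) (fun i => (1 : Matrix (Fin 3) (Fin 3) k) i j) ?_) i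
    rw [← hσb]
    simp [Matrix.one_apply]
  have hPm : ∀ g g', P (g * g') = P g * P g' := by
    intro g g'
    ext i j
    refine congrFun (huniq (fun i => P (g * g') i j) (fun i => (P g * P g') i j) ?_) i
    rw [← hσb, map_mul, Module.End.mul_apply, hσb g' j, map_sum]
    simp only [map_smul, hσb g, Finset.smul_sum, smul_smul, Matrix.mul_apply, Finset.sum_smul]
    rw [Finset.sum_comm]
    exact Finset.sum_congr rfl fun i _ => Finset.sum_congr rfl fun l _ => by rw [mul_comm]
  refine ⟨{ toFun := P, map_one' := hP1, map_mul' := hPm }, fun g => ?_, ?_, fun v hvx hvp => ?_⟩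
  · show (P g)ᵀ * gram * P g = gram
    ext i j
    refine mul_left_cancel₀ hβ'0 ?_
    conv_rhs => rw [← hgram, ← hinv g, hσb, hσb]
    simp only [map_sum, map_smul, LinearMap.sum_apply, LinearMap.smul_apply, hgram, smul_eq_mul,
      Matrix.mul_apply, Matrix.transpose_apply, Finset.mul_sum, Finset.sum_mul]
    exact Finset.sum_congr rfl fun _ _ => Finset.sum_congr rfl fun _ _ => by ring
  · show P x = regUnip
    ext i j
    refine congrFun (huniq (fun i => P x i j) (fun i => (regUnip : Matrix (Fin 3) (Fin 3) k) i j) ?_) i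
    rw [← hσb]
    fin_cases j <;> simp [hb, regUnip, Fin.sum_univ_three, hx0, hx1', hx3] <;> module
  · show P v = 1
    have hvn : v ∈ nrm x := Subgroup.mem_normalizer_fintype fun y hy => by
      obtain ⟨m, rfl⟩ := Subgroup.mem_zpowers_iff.1 hy
      rw [(hvx.zpow_right m).eq, mul_inv_cancel_right]
      exact Subgroup.zpow_mem _ (Subgroup.mem_zpowers x) m
    obtain ⟨r, i, -, hri, h1, h2', h3⟩ := hnorm v hvn
    obtain ⟨rfl, rfl⟩ := hri hvx hvp
    simp only [pow_zero, mul_one, one_smul, inv_one] at h1 h2' h3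
    have hfix : ∀ j, σ v (b j) = b j := by
      intro j
      fin_cases j <;>
        simp [hb, ha0, ha1, ha2, ha3, hse, hconj v _ _ h1, hconj v _ _ h2', hconj v _ _ h3]
    ext i j
    refine congrFun (huniq (fun i => P v i j) (fun i => (1 : Matrix (Fin 3) (Fin 3) k) i j) ?_) i
    rw [← hσb, hfix]
    simp [Matrix.one_apply]

/-- The orthogonal representation in dimension at most `(p - 1) / 2`. -/
theorem exists_three_dim (hxo : orderOf x = p) (hsq : ¬ p ^ 2 ∣ Nat.card G)
    (hdim : 2 * Module.finrank k V + 1 ≤ p) (hx1 : ρ x ≠ 1) :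
    ∃ ψ : G →* Matrix (Fin 3) (Fin 3) k, (∀ g, (ψ g)ᵀ * gram * ψ g = gram) ∧ ψ x = regUnip ∧
      (∀ v, Commute v x → ¬ p ∣ orderOf v → ψ v = 1) := by
  classical
  have hpos : 0 < Module.finrank k V := by
    by_contra hz
    refine hx1 (LinearMap.ext fun v => ?_)
    have : Subsingleton V := (Module.finrank_zero_iff (R := k)).1 (by omega)
    exact Subsingleton.elim _ _
  have hAd : (ρ x - 1) ^ Module.finrank k V = 0 := by
    have hN : IsNilpotent (ρ x - 1) := by
      refine ⟨p, ?_⟩
      have h2' := congrArg (Polynomial.aeval (ρ x))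
        (sub_pow_char (p := p) (Polynomial.X : Polynomial k) 1)
      simp only [map_sub, map_pow, Polynomial.aeval_X, map_one, one_pow] at h2'
      rw [h2', ← map_pow, ← hxo, pow_orderOf_eq_one, map_one, sub_self]
    have h1 := (LinearMap.isNilpotent_iff_charpoly (ρ x - 1)).1 hN
    have h2' := LinearMap.aeval_self_charpoly (ρ x - 1)
    rwa [h1, map_pow, Polynomial.aeval_X] at h2'
  exact exists_three_dim_of_pow ρ hxo hsq (by have := hp.out.two_le; omega) (by omega) hAd hx1

end CfsgLib.HalfPSL
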