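import Cfsg.Agent.Lib.PrimeDefect.Orbit
import Mathlib.RepresentationTheory.Basic
import Mathlib.Algebra.Polynomial.AlgebraMap
import Mathlib.Algebra.Polynomial.RingDivision
import Mathlib.Algebra.CharP.Lemmas
import Mathlib.Algebra.Ring.GeomSum

/-!
# Lifting summands from the normaliser of a Sylow subgroup of prime order

`x` has order `p`, `p² ∤ |G|`, and `G` acts on a space over a field of characteristic `p` with
`(x - 1)^(p-1) = 0`.  An idempotent commuting with the normaliser of `⟨x⟩` differs from an idempotent
commuting with `G` by an endomorphism lowering the kernels of the powers of `x - 1`: the transfer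
of the first is congruent to it modulo such maps, and idempotents lift.
-/

set_option autoImplicit false
set_option linter.unusedSectionVars false
set_option linter.style.haveILetI false

noncomputable section

namespace CfsgLib.HalfPSL

open Polynomial

variable {k : Type*} [Field k] {W : Type*} [AddCommGroup W] [Module k W]

/-- Endomorphisms commuting with `A` and lowering the kernels of its powers. -/
def Lowers (A f : Module.End k W) : Prop :=
  Commute f A ∧ ∀ (j : ℕ) (w : W), (A ^ (j + 1)) w = 0 → (A ^ j) (f w) = 0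

namespace Lowers

variable {A f g : Module.End k W}

theorem zero : Lowers A 0 := ⟨Commute.zero_left A, fun j w _ => by simp⟩

theorem add (hf : Lowers A f) (hg : Lowers A g) : Lowers A (f + g) :=
  ⟨hf.1.add_left hg.1, fun j w h => by
    rw [LinearMap.add_apply, map_add, hf.2 j w h, hg.2 j w h, add_zero]⟩

theorem neg (hf : Lowers A f) : Lowers A (-f) :=
  ⟨hf.1.neg_left, fun j w h => by rw [LinearMap.neg_apply, map_neg, hf.2 j w h, neg_zero]⟩

theorem sub (hf : Lowers A f) (hg : Lowers A g) : Lowers A (f - g) := by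
  rw [sub_eq_add_neg]; exact hf.add hg.neg

theorem mul_comm_right (hf : Lowers A f) (hg : Commute g A) : Lowers A (f * g) :=
  ⟨hf.1.mul_left hg, fun j w h => hf.2 j (g w) (by
    rw [← Module.End.mul_apply, ← (hg.pow_right (j + 1)).eq, Module.End.mul_apply, h, map_zero])⟩

theorem mul_comm_left (hf : Lowers A f) (hg : Commute g A) : Lowers A (g * f) :=
  ⟨hg.mul_left hf.1, fun j w h => by
    rw [Module.End.mul_apply, ← Module.End.mul_apply, ← (hg.pow_right j).eq, Module.End.mul_apply,
      hf.2 j w h, map_zero]⟩

theorem pow_apply (hf : Lowers A f) :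
    ∀ (D : ℕ) (w : W), (A ^ D) w = 0 → (f ^ D) w = 0 := by
  intro D
  induction D with
  | zero => intro w h; simpa using h
  | succ D ih =>
    intro w h
    rw [pow_succ, Module.End.mul_apply]
    exact ih _ (hf.2 D w h)

theorem pow_eq_zero (hf : Lowers A f) {D : ℕ} (hD : A ^ D = 0) : f ^ D = 0 :=
  LinearMap.ext fun w => by
    rw [hf.pow_apply D w (by rw [hD]; rfl), LinearMap.zero_apply]

theorem eq_zero_of_fixed (hf : Lowers A f) {D : ℕ} (hD : A ^ D = 0) {w : W} (h : f w = w) :
    w = 0 := by
  have h1 : ∀ i : ℕ, (f ^ i) w = w := by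
    intro i
    induction i with
    | zero => rfl
    | succ i ih => rw [pow_succ, Module.End.mul_apply, h, ih]
  rw [← h1 D, hf.pow_eq_zero hD, LinearMap.zero_apply]

theorem pow_sub {π : Module.End k W} (hf : Lowers A (f - π)) (hπ : IsIdempotentElem π)
    (hπA : Commute π A) : ∀ n : ℕ, 0 < n → Lowers A (f ^ n - π) := by
  intro n hn
  induction n with
  | zero => omega
  | succ n ih =>
    rcases Nat.eq_zero_or_pos n with rfl | hn0
    · simpa using hf
    have hfA : Commute f A := by
      have := hf.1.add_left hπA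
      rwa [sub_add_cancel] at this
    have e : f ^ (n + 1) - π = (f ^ n - π) * f + π * (f - π) := by
      rw [pow_succ, sub_mul, mul_sub, hπ.eq]; abel
    rw [e]
    exact ((ih hn0).mul_comm_right hfA).add (hf.mul_comm_left hπA)

end Lowers

/-- The key estimate on the powers of `conj X - 1`. -/
theorem conj_sub_one_apply {X Y : Module.End k W} (hXY : X * Y = 1) (hYX : Y * X = 1) {D : ℕ}
    (hD : (X - 1) ^ D = 0) (T : Module.End k (Module.End k W))
    (hT : ∀ h, T h = X * h * Y) (h : Module.End k W) :
    ∀ (n a b : ℕ) (w : W), D + b ≤ a + n + 1 → ((X - 1) ^ b) w = 0 →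
      ((X - 1) ^ a) ((((T - 1) ^ n) h) w) = 0 := by
  intro n
  induction n with
  | zero =>
    intro a b w hab hw
    rcases Nat.eq_zero_or_pos b with rfl | hb
    · rw [pow_zero, Module.End.one_apply] at hw
      rw [hw]; simp
    · rw [pow_eq_zero_of_le (by omega) hD, LinearMap.zero_apply]
  | succ n ih =>
    intro a b w hab hw
    rcases Nat.eq_zero_or_pos b with rfl | hb
    · rw [pow_zero, Module.End.one_apply] at hw
      rw [hw]; simp
    have hcY : Commute Y (X - 1) := by
      refine Commute.sub_right ?_ (Commute.one_right Y)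
      show Y * X = X * Y
      rw [hXY, hYX]
    set Φ := ((T - 1) ^ n) h with hΦ
    have hw' : ((X - 1) ^ b) (Y w) = 0 := by
      rw [← Module.End.mul_apply, ← (hcY.pow_right b).eq, Module.End.mul_apply, hw, map_zero]
    have e : ((T - 1) ^ (n + 1)) h = (X - 1) * Φ * Y - Φ * (X - 1) * Y := by
      rw [pow_succ', Module.End.mul_apply, ← hΦ, LinearMap.sub_apply, hT, Module.End.one_apply]
      simp only [sub_mul, mul_sub, mul_assoc, one_mul, mul_one, hXY]
      abel
    rw [e, LinearMap.sub_apply, map_sub, Module.End.mul_apply, Module.End.mul_apply,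
      Module.End.mul_apply, Module.End.mul_apply, ← Module.End.mul_apply ((X - 1) ^ a), ← pow_succ,
      ih (a + 1) b (Y w) (by omega) hw', zero_sub, neg_eq_zero]
    refine ih a (b - 1) _ (by omega) ?_
    rw [← Module.End.mul_apply, ← pow_succ, Nat.sub_add_cancel hb, hw']

theorem geom_sum_eq_sub_one_pow (p : ℕ) [Fact p.Prime] [CharP k p] :
    ∑ i ∈ Finset.range p, (Polynomial.X : k[X]) ^ i = ((Polynomial.X : k[X]) - 1) ^ (p - 1) := by
  have h0 : ((Polynomial.X : k[X]) - 1) ≠ 0 := by
    rw [← Polynomial.C_1]; exact Polynomial.X_sub_C_ne_zero 1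
  refine mul_right_cancel₀ h0 ?_
  rw [geom_sum_mul, ← pow_succ, Nat.sub_add_cancel (Fact.out : p.Prime).one_le, sub_pow_char, one_pow]

section Rep

variable {G : Type*} [Group G] (σ : Representation k G W) {p : ℕ} [hp : Fact p.Prime] [CharP k p]
  {x : G}

/-- Conjugation by `σ g` on endomorphisms. -/
theorem linHom_eq (g : G) (f : Module.End k W) :
    Representation.linHom σ σ g f = σ g * f * σ g⁻¹ := by
  rw [Representation.linHom_apply, mul_assoc]; rfl

/-- A relative trace from the trivial subgroup to `⟨x⟩` lowers. -/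
theorem lowers_trace (hx : x ^ p = 1) (hD : (σ x - 1) ^ (p - 1) = 0) (h : Module.End k W) :
    Lowers (σ x - 1) (∑ i ∈ Finset.range p, Representation.linHom σ σ (x ^ i) h) := by
  set T := Representation.linHom σ σ x with hT
  have e : ∑ i ∈ Finset.range p, Representation.linHom σ σ (x ^ i) h = ((T - 1) ^ (p - 1)) h := by
    have h1 := congrArg (Polynomial.aeval T) (geom_sum_eq_sub_one_pow (k := k) p)
    simp only [map_sum, map_pow, Polynomial.aeval_X, map_sub, map_one] at h1
    rw [← h1, LinearMap.sum_apply]
    exact Finset.sum_congr rfl fun i _ => by rw [map_pow]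
  rw [e]
  constructor
  · have hfix : T (((T - 1) ^ (p - 1)) h) = ((T - 1) ^ (p - 1)) h := by
      rw [← sub_eq_zero]
      have h2 := congrArg (Polynomial.aeval T) (sub_pow_char (p := p) (Polynomial.X : k[X]) 1)
      simp only [map_sub, map_pow, Polynomial.aeval_X, map_one, one_pow] at h2
      have h3 : (T - 1) ^ p = 0 := by
        rw [h2, hT, ← map_pow, hx, map_one, sub_self]
      have h4 : (T - 1) (((T - 1) ^ (p - 1)) h) = 0 := by
        rw [← Module.End.mul_apply, ← pow_succ', Nat.sub_add_cancel hp.out.one_le, h3,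
          LinearMap.zero_apply]
      simpa using h4
    rw [hT, linHom_eq] at hfix
    refine Commute.sub_right ?_ (Commute.one_right _)
    show _ * σ x = σ x * _
    conv_lhs => rw [← hfix]
    rw [mul_assoc, ← map_mul, inv_mul_cancel, map_one, mul_one]
  · intro j w hw
    refine conj_sub_one_apply (X := σ x) (Y := σ x⁻¹) ?_ ?_ hD T (fun f => linHom_eq σ x f) h
      (p - 1) j (j + 1) w (by omega) hw
    · rw [← map_mul, mul_inv_cancel, map_one]
    · rw [← map_mul, inv_mul_cancel, map_one]

open scoped Classical in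
/-- The transfer of an endomorphism commuting with the normaliser of `⟨x⟩`. -/
theorem exists_transfer [Finite G] (hxo : orderOf x = p) (hsq : ¬ p ^ 2 ∣ Nat.card G)
    (hD : (σ x - 1) ^ (p - 1) = 0) (π : Module.End k W)
    (hπ : ∀ n ∈ PrimeDefect.nrm x, Commute π (σ n)) :
    ∃ a : Module.End k W, Lowers (σ x - 1) (a - π) ∧ (∀ g, Commute a (σ g)) ∧
      ∀ B : W →ₗ[k] W →ₗ[k] k, (∀ g u v, B (σ g u) (σ g v) = B u v) →
        (∀ u v, B (π u) v = B u (π v)) → ∀ u v, B (a u) v = B u (a v) := by
  set N := PrimeDefect.nrm x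
  haveI := Fintype.ofFinite (G ⧸ N)
  set T := Representation.linHom σ σ
  -- the conjugates of `π`
  let f : G ⧸ N → Module.End k W := Quotient.lift (fun g => T g π) (by
    intro g g' hgg
    have hn : g⁻¹ * g' ∈ N := QuotientGroup.leftRel_apply.1 hgg
    have h1 : T (g⁻¹ * g') π = π := by
      rw [linHom_eq, ← (hπ _ hn).eq, mul_assoc, ← map_mul, mul_inv_cancel, map_one, mul_one]
    show T g π = T g' π
    conv_rhs => rw [show g' = g * (g⁻¹ * g') by group, map_mul, Module.End.mul_apply, h1])
  have hf : ∀ (g : G) (q : G ⧸ N), f (g • q) = T g (f q) := by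
    intro g q
    induction q using QuotientGroup.induction_on with | H a => ?_
    show T (g * a) π = T g (T a π)
    rw [map_mul, Module.End.mul_apply]
  have hf1 : f ((1 : G) : G ⧸ N) = π := by
    show T 1 π = π
    rw [map_one, Module.End.one_apply]
  set a := ∑ q : G ⧸ N, f q with ha
  refine ⟨a, ?_, fun g => ?_, fun B hB hπB u v => ?_⟩
  · -- the points moved by `x`
    set S : Finset (G ⧸ N) := Finset.univ.erase ((1 : G) : G ⧸ N)
    have hsum : a - π = ∑ q ∈ S, f q := by
      rw [ha, ← Finset.add_sum_erase _ f (Finset.mem_univ ((1 : G) : G ⧸ N)), hf1, add_sub_cancel_left]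
    let r := MulAction.orbitRel (Subgroup.zpowers x) (G ⧸ N)
    rw [hsum, ← Finset.sum_fiberwise_of_maps_to (s := S) (t := S.image (Quotient.mk r))
      (g := Quotient.mk r) fun q hq => Finset.mem_image_of_mem _ hq]
    refine Finset.sum_induction _ (Lowers (σ x - 1)) (fun _ _ h h' => h.add h') Lowers.zero ?_
    intro ω hω
    obtain ⟨q₀, hq₀, rfl⟩ := Finset.mem_image.1 hω
    have hx1 : x ^ p = 1 := hxo ▸ pow_orderOf_eq_one x
    have hfix : ∀ i : ℕ, x ^ i • ((1 : G) : G ⧸ N) = ((1 : G) : G ⧸ N) := by
      intro i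
      show ((x ^ i * 1 : G) : G ⧸ N) = _
      rw [mul_one, QuotientGroup.eq, mul_one]
      exact inv_mem (pow_mem (Subgroup.le_normalizer (Subgroup.mem_zpowers x)) i)
    have hfree : ∀ i : ℕ, i < p → x ^ i • q₀ = q₀ → i = 0 := by
      intro i hi h
      by_contra hi0
      induction q₀ using QuotientGroup.induction_on with | H b => ?_
      have h2 : b⁻¹ * x ^ i * b ∈ N := by
        have h' : ((x ^ i * b : G) : G ⧸ N) = (b : G ⧸ N) := h
        rw [QuotientGroup.eq] at h'
        rw [show b⁻¹ * x ^ i * b = ((x ^ i * b)⁻¹ * b)⁻¹ by group]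
        exact inv_mem h'
      have hcop : i.Coprime (orderOf x) := by
        rw [hxo]
        exact ((hp.out.coprime_iff_not_dvd).2 fun hd =>
          absurd (Nat.le_of_dvd (Nat.pos_of_ne_zero hi0) hd) (by omega)).symm
      obtain ⟨j, hj⟩ := exists_pow_eq_self_of_coprime hcop
      have h1 : b⁻¹ * x * b ∈ N := by
        have := pow_mem h2 j
        rwa [show (b⁻¹ * x ^ i * b) ^ j = b⁻¹ * (x ^ i) ^ j * b by
          simpa using conj_pow (a := b⁻¹) (b := x ^ i) (i := j), hj] at this
      -- a subgroup of order `p` of the normaliser is `⟨x⟩`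
      have hP : Subgroup.zpowers (b⁻¹ * x * b) = Subgroup.zpowers x := by
        set y : N := ⟨b⁻¹ * x * b, h1⟩
        set x' : N := ⟨x, Subgroup.le_normalizer (Subgroup.mem_zpowers x)⟩
        have hyo : orderOf y = p := by
          rw [← Subgroup.orderOf_coe]
          show orderOf (b⁻¹ * x * b) = p
          rw [show b⁻¹ * x * b = MulAut.conj b⁻¹ x by simp]
          exact (orderOf_injective (MulAut.conj b⁻¹).toMonoidHom (MulAut.conj b⁻¹).injective x).trans hxo
        have hxo' : orderOf x' = p := by rw [← Subgroup.orderOf_coe]; exact hxo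
        have hsqN : ¬ p ^ 2 ∣ Nat.card N := fun h => hsq (h.trans (Subgroup.card_subgroup_dvd_card N))
        have hpg : ∀ z : N, orderOf z = p → IsPGroup p (Subgroup.zpowers z) := fun z hz =>
          IsPGroup.of_card (n := 1) (by rw [Nat.card_zpowers, hz, pow_one])
        have hmax : ∀ z : N, orderOf z = p → ∀ P : Sylow p N, Subgroup.zpowers z ≤ P →
            Subgroup.zpowers z = P := by
          intro z hz P hP
          refine Subgroup.eq_of_le_of_card_ge hP ?_
          obtain ⟨m, hm⟩ := IsPGroup.iff_card.1 P.isPGroup'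
          rw [hm, Nat.card_zpowers, hz]
          have : m ≤ 1 := by
            by_contra hm2
            exact hsqN ((pow_dvd_pow p (by omega : 2 ≤ m)).trans
              (hm ▸ Subgroup.card_subgroup_dvd_card _))
          exact (Nat.pow_le_pow_right hp.out.pos this).trans (pow_one p).le
        obtain ⟨P, hPy⟩ := (hpg y hyo).exists_le_sylow
        obtain ⟨Q, hQx⟩ := (hpg x' hxo').exists_le_sylow
        have hn : (Q : Subgroup N).Normal := by
          rw [← hmax x' hxo' Q hQx, show Subgroup.zpowers x' = (Subgroup.zpowers x).subgroupOf N by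
            ext z
            rw [Subgroup.mem_subgroupOf, Subgroup.mem_zpowers_iff, Subgroup.mem_zpowers_iff]
            exact exists_congr fun m => Subtype.ext_iff]
          exact Subgroup.normal_in_normalizer
        haveI := Sylow.unique_of_normal Q hn
        have heq : Subgroup.zpowers y = Subgroup.zpowers x' := by
          rw [hmax y hyo P hPy, hmax x' hxo' Q hQx, Subsingleton.elim P Q]
        have h3 := congrArg (Subgroup.map N.subtype) heq
        rwa [MonoidHom.map_zpowers, MonoidHom.map_zpowers] at h3
      refine (Finset.mem_erase.1 hq₀).1 ?_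
      rw [QuotientGroup.eq, mul_one, inv_mem_iff]
      show b ∈ Subgroup.normalizer ((Subgroup.zpowers x : Subgroup G) : Set G)
      rw [Subgroup.mem_normalizer_iff]
      intro z
      have hmap : (Subgroup.zpowers x).map (MulAut.conj b).toMonoidHom = Subgroup.zpowers x := by
        conv_lhs => rw [← hP, MonoidHom.map_zpowers]
        congr 1
        simp [mul_assoc]
      constructor
      · intro hz
        rw [← hmap]
        exact ⟨z, hz, rfl⟩
      · intro hz
        rw [← hmap] at hz
        obtain ⟨z', hz', hzz⟩ := hz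
        rwa [← (MulAut.conj b).injective hzz]
    have hinj : Set.InjOn (fun i : ℕ => x ^ i • q₀) (Finset.range p) := by
      intro i hi j hj h
      simp only [Finset.coe_range, Set.mem_Iio] at hi hj
      have key : ∀ i j, i ≤ j → j < p → x ^ i • q₀ = x ^ j • q₀ → i = j := by
        intro i j hij hj h
        have h' : x ^ (j - i) • q₀ = q₀ := by
          apply MulAction.injective (x ^ i)
          show x ^ i • x ^ (j - i) • q₀ = x ^ i • q₀
          rw [← mul_smul, ← pow_add, Nat.add_sub_cancel' hij, ← h]
        have := hfree (j - i) (by omega) h'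
        omega
      rcases le_total i j with hij | hij
      · exact key i j hij hj h
      · exact (key j i hij hi h.symm).symm
    have hfiber : S.filter (fun q => Quotient.mk r q = Quotient.mk r q₀) =
        (Finset.range p).image fun i => x ^ i • q₀ := by
      ext q
      simp only [Finset.mem_filter, Finset.mem_image, Finset.mem_range]
      constructor
      · rintro ⟨-, hq⟩
        obtain ⟨⟨z, hz⟩, hzq⟩ := MulAction.orbitRel_apply.1 (Quotient.exact hq)
        obtain ⟨i, rfl⟩ := (mem_powers_iff_mem_zpowers (x := x)).2 hz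
        refine ⟨i % p, Nat.mod_lt _ hp.out.pos, ?_⟩
        rw [← hzq, ← hxo, pow_mod_orderOf]
        rfl
      · rintro ⟨i, -, rfl⟩
        refine ⟨Finset.mem_erase.2 ⟨fun h => (Finset.mem_erase.1 hq₀).1 ?_, Finset.mem_univ _⟩, ?_⟩
        · exact MulAction.injective (x ^ i) (h.trans (hfix i).symm)
        · exact Quotient.sound (MulAction.orbitRel_apply.2
            ⟨⟨x ^ i, Subgroup.npow_mem_zpowers x i⟩, rfl⟩)
    rw [hfiber, Finset.sum_image hinj]
    simp only [hf]
    exact lowers_trace σ hx1 hD (f q₀)
  · have h1 : T g a = a := by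
      rw [ha, map_sum]
      simp only [← hf]
      exact Fintype.sum_equiv (MulAction.toPerm g) _ _ fun q => rfl
    rw [linHom_eq] at h1
    show a * σ g = σ g * a
    conv_lhs => rw [← h1]
    rw [mul_assoc, ← map_mul, inv_mul_cancel, map_one, mul_one]
  · simp only [ha, LinearMap.sum_apply, map_sum]
    refine Finset.sum_congr rfl fun q _ => ?_
    induction q using QuotientGroup.induction_on with | H b => ?_
    show B (T b π u) v = B u (T b π v)
    show B (σ b (π (σ b⁻¹ u))) v = B u (σ b (π (σ b⁻¹ v)))
    calc B (σ b (π (σ b⁻¹ u))) v = B (σ b (π (σ b⁻¹ u))) (σ b (σ b⁻¹ v)) := by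
          rw [← Module.End.mul_apply (σ b) (σ b⁻¹), ← map_mul σ, mul_inv_cancel, map_one, Module.End.one_apply]
      _ = B (σ b⁻¹ u) (π (σ b⁻¹ v)) := by rw [hB, hπB]
      _ = B (σ b (σ b⁻¹ u)) (σ b (π (σ b⁻¹ v))) := by rw [hB]
      _ = B u (σ b (π (σ b⁻¹ v))) := by
          rw [← Module.End.mul_apply (σ b) (σ b⁻¹), ← map_mul σ, mul_inv_cancel, map_one,
            Module.End.one_apply]

/-- An idempotent commuting with the normaliser of `⟨x⟩` lifts to one commuting with `G`. -/
theorem exists_idempotent [Finite G] (hxo : orderOf x = p) (hsq : ¬ p ^ 2 ∣ Nat.card G)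
    (hD : (σ x - 1) ^ (p - 1) = 0) (π : Module.End k W) (hidem : IsIdempotentElem π)
    (hπ : ∀ n ∈ PrimeDefect.nrm x, Commute π (σ n)) :
    ∃ e : Module.End k W, IsIdempotentElem e ∧ (∀ g, Commute e (σ g)) ∧
      (∀ w, π w = w → e w = 0 → w = 0) ∧ (∀ w, e w = w → π w = 0 → w = 0) ∧
      ∀ B : W →ₗ[k] W →ₗ[k] k, (∀ g u v, B (σ g u) (σ g v) = B u v) →
        (∀ u v, B (π u) v = B u (π v)) → ∀ u v, B (e u) v = B u (e v) := by
  obtain ⟨a, has, hcomm, hadj⟩ := exists_transfer σ hxo hsq hD π hπ
  set A := σ x - 1
  set M := p - 1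
  have hM : 0 < M := Nat.sub_pos_of_lt hp.out.one_lt
  have hπA : Commute π A :=
    (hπ x (Subgroup.le_normalizer (Subgroup.mem_zpowers x))).sub_right (Commute.one_right π)
  set P : k[X] := 1 - (1 - X ^ M) ^ M with hP
  set e := Polynomial.aeval a P with he
  have he' : e = 1 - (1 - a ^ M) ^ M := by
    simp [he, hP]
  have hq : Lowers A ((1 - a ^ M) - (1 - π)) := by
    have := (has.pow_sub hidem hπA M hM).neg
    rwa [show (1 - a ^ M) - (1 - π) = -(a ^ M - π) by abel]
  have hlow : Lowers A (e - π) := by
    have := (hq.pow_sub hidem.one_sub ((Commute.one_left A).sub_left hπA) M hM).neg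
    rwa [he', show 1 - (1 - a ^ M) ^ M - π = -((1 - a ^ M) ^ M - (1 - π)) by abel]
  have hnil : (a * (1 - a)) ^ M = 0 := by
    refine Lowers.pow_eq_zero (A := A) ?_ hD
    have hsA : Commute (a - π) A := has.1
    have : a * (1 - a) = (a - π) * (1 - π) - π * (a - π) - (a - π) * (a - π) := by
      simp only [mul_sub, sub_mul, mul_one, hidem.eq]
      abel
    rw [this]
    exact ((has.mul_comm_right ((Commute.one_left A).sub_left hπA)).sub
      (has.mul_comm_left hπA)).sub (has.mul_comm_right hsA)
  have hidem' : IsIdempotentElem e := by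
    have hdvd : ((X : k[X]) * (1 - X)) ^ M ∣ P * (1 - P) := by
      rw [mul_pow]
      refine mul_dvd_mul ?_ ?_
      · have h := sub_dvd_pow_sub_pow (1 : k[X]) (1 - X ^ M) M
        rwa [sub_sub_cancel, one_pow] at h
      · rw [hP, sub_sub_cancel]
        refine pow_dvd_pow_of_dvd ?_ M
        have h := sub_dvd_pow_sub_pow (1 : k[X]) X M
        rwa [one_pow] at h
    obtain ⟨R, hR⟩ := hdvd
    have h : e * (1 - e) = 0 := by
      have h1 := congrArg (Polynomial.aeval a) hR
      simp only [map_mul, map_pow, map_sub, map_one, Polynomial.aeval_X, ← he] at h1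
      rw [h1, hnil, zero_mul]
    rw [mul_sub, mul_one, sub_eq_zero] at h
    exact h.symm
  refine ⟨e, hidem', fun g => ?_, fun w hw he0 => ?_, fun w hw hπ0 => ?_, fun B hB hπB u v => ?_⟩
  · rw [he']
    exact (Commute.one_left _).sub_left
      (((Commute.one_left _).sub_left ((hcomm g).pow_left M)).pow_left M)
  · refine hlow.neg.eq_zero_of_fixed hD ?_
    simp [hw, he0]
  · refine hlow.eq_zero_of_fixed hD ?_
    simp [hw, hπ0]
  · have ha := hadj B hB hπB
    rw [he]
    clear_value P
    clear he' hlow hidem' hP he e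
    revert u v
    induction P using Polynomial.induction_on' with
    | add Q R hQ hR => intro u v; simp [map_add, hQ, hR]
    | monomial n c =>
      intro u v
      suffices h : ∀ u v, B ((a ^ n) u) v = B u ((a ^ n) v) by
        simp [Polynomial.aeval_monomial, Algebra.algebraMap_eq_smul_one, h]
      induction n with
      | zero => simp
      | succ n ih =>
        intro u v
        rw [pow_succ, Module.End.mul_apply, ih, ha, ← Module.End.mul_apply, ← pow_succ', pow_succ]

end Rep

end CfsgLib.HalfPSL
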